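import Mathlib

/-!
# Bertini–Noether: spreading irreducibility of monic polynomials
-/

set_option autoImplicit false
universe u

open MvPolynomial

namespace GISpreadLib

variable {R : Type u} [CommRing R] [IsDomain R]

/-- A system of equations without solutions over an algebraic closure of the fraction field has no
solutions in any field where a suitable nonzero element does not vanish. -/
theorem exists_forall_no_root {σ : Type u} [Finite σ] (L : Type u) [Field L] [IsAlgClosed L] [Algebra R L]
    [FaithfulSMul R L] (I : Ideal (MvPolynomial σ R))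
    (hI : ∀ x : σ → L, ∃ F ∈ I, aeval x F ≠ 0) :
    ∃ h : R, h ≠ 0 ∧ ∀ (k : Type u) [Field k] [Algebra R k], algebraMap R k h ≠ 0 →
      ∀ x : σ → k, ∃ F ∈ I, aeval x F ≠ 0 := by
  by_cases hR : ∃ h : R, h ≠ 0 ∧ C h ∈ I
  · obtain ⟨h, hne, hh⟩ := hR
    exact ⟨h, hne, fun k _ _ hk x => ⟨C h, hh, by rwa [aeval_C]⟩⟩
  exfalso
  push Not at hR
  let K := FractionRing R
  letI : Algebra (MvPolynomial σ R) (MvPolynomial σ K) := MvPolynomial.algebraMvPolynomial
  have : IsLocalization ((nonZeroDivisors R).map (C (σ := σ))) (MvPolynomial σ K) :=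
    MvPolynomial.isLocalization _ _
  have hJ : I.map (algebraMap (MvPolynomial σ R) (MvPolynomial σ K)) ≠ ⊤ := by
    rw [IsLocalization.map_algebraMap_ne_top_iff_disjoint ((nonZeroDivisors R).map (C (σ := σ)))]
    rw [Set.disjoint_left]
    rintro _ ⟨r, hr, rfl⟩ hmem
    exact hR r (nonZeroDivisors.ne_zero hr) hmem
  obtain ⟨m, hm, hIm⟩ := Ideal.exists_le_maximal _ hJ
  letI := Ideal.Quotient.field m
  have : Module.Finite K (MvPolynomial σ K ⧸ m) := finite_of_finite_type_of_isJacobsonRing _ _
  letI : Algebra K L := FractionRing.liftAlgebra R L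
  have : IsScalarTower R K L := FractionRing.isScalarTower_liftAlgebra R L
  let g : (MvPolynomial σ K ⧸ m) →ₐ[K] L := IsAlgClosed.lift
  obtain ⟨F, hF, hne⟩ := hI fun i => g (Ideal.Quotient.mk m (X i))
  refine hne ?_
  have e : ∀ G : MvPolynomial σ R, g (Ideal.Quotient.mk m (algebraMap _ (MvPolynomial σ K) G)) =
      aeval (fun i => g (Ideal.Quotient.mk m (X i))) G := by
    intro G
    induction G using MvPolynomial.induction_on with
    | C r =>
      rw [MvPolynomial.algebraMap_def, map_C, aeval_C, IsScalarTower.algebraMap_apply R K L]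
      exact g.commutes (algebraMap R K r)
    | add p q hp hq => simp only [map_add, hp, hq]
    | mul_X p i hp =>
      rw [map_mul, map_mul, map_mul, map_mul, hp, aeval_X]
      simp only [MvPolynomial.algebraMap_def, map_X]
  rw [← e, Ideal.Quotient.eq_zero_iff_mem.mpr (hIm (Ideal.mem_map_of_mem _ hF)), map_zero]

/-- The exponent attached to a bounded tuple. -/
noncomputable def expo (d N : ℕ) (v : Fin d → Fin (N + 1)) : Fin d →₀ ℕ :=
  Finsupp.equivFunOnFinite.symm fun l => (v l : ℕ)

theorem expo_injective (d N : ℕ) : Function.Injective (expo d N) := fun v w h =>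
  funext fun l => Fin.ext (DFunLike.congr_fun h l)

/-- A monic polynomial with indeterminate lower coefficients of bounded degree. -/
noncomputable def genericMonic (d i N : ℕ) {T : Type u} [CommRing T]
    (a : Fin i × (Fin d → Fin (N + 1)) → T) : Polynomial (MvPolynomial (Fin d) T) :=
  Polynomial.X ^ i + ∑ j : Fin i, Polynomial.monomial (j : ℕ) (∑ v, monomial (expo d N v) (a (j, v)))

theorem genericMonic_map (d i N : ℕ) {T T' : Type u} [CommRing T] [CommRing T'] (f : T →+* T')
    (a : Fin i × (Fin d → Fin (N + 1)) → T) :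
    (genericMonic d i N a).map (MvPolynomial.map f) = genericMonic d i N (f ∘ a) := by
  simp [genericMonic, Polynomial.map_sum, map_sum, MvPolynomial.map_monomial]

theorem exists_genericMonic (d i N : ℕ) {T : Type u} [CommRing T] (q : Polynomial (MvPolynomial (Fin d) T))
    (hq : q.Monic) (hd : q.natDegree = i) (hN : ∀ j, (q.coeff j).totalDegree ≤ N) :
    ∃ a, genericMonic d i N a = q := by
  refine ⟨fun p => MvPolynomial.coeff (expo d N p.2) (q.coeff p.1), ?_⟩
  have key : ∀ j : ℕ, ∑ v, monomial (expo d N v) (MvPolynomial.coeff (expo d N v) (q.coeff j)) = q.coeff j := by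
    intro j
    ext m
    rw [coeff_sum]
    by_cases hm : ∃ v, expo d N v = m
    · obtain ⟨v, rfl⟩ := hm
      rw [Finset.sum_eq_single v (fun w _ hw => by rw [coeff_monomial, if_neg ((expo_injective d N).ne hw)])
        (by simp), coeff_monomial, if_pos rfl]
    · rw [Finset.sum_eq_zero fun w _ => by rw [coeff_monomial, if_neg (fun h => hm ⟨w, h⟩)]]
      by_contra hne
      refine hm ⟨fun l => ⟨m l, ?_⟩, Finsupp.ext fun l => rfl⟩
      have h1 : m.sum (fun _ e => e) ≤ N :=
        (MvPolynomial.le_totalDegree (MvPolynomial.mem_support_iff.mpr (Ne.symm hne))).trans (hN j)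
      by_cases hl : l ∈ m.support
      · exact Nat.lt_succ_of_le ((Finset.single_le_sum (f := fun l => m l) (fun _ _ => Nat.zero_le _) hl).trans h1)
      · rw [Finsupp.notMem_support_iff.mp hl]; exact Nat.succ_pos _
  rw [genericMonic]
  simp only [key]
  conv_rhs => rw [hq.as_sum, hd]
  congr 1
  rw [Finset.sum_range]
  simp [Polynomial.C_mul_X_pow_eq_monomial]

theorem totalDegree_coeff_le {d : ℕ} {T : Type u} [CommRing T] (p : Polynomial (MvPolynomial (Fin d) T)) (j : ℕ) :
    (p.coeff j).totalDegree ≤ ((MvPolynomial.finSuccEquiv T d).symm p).totalDegree := by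
  by_cases h : p.coeff j = 0
  · simp [h]
  have := MvPolynomial.totalDegree_coeff_finSuccEquiv_add_le ((MvPolynomial.finSuccEquiv T d).symm p) j
    (by rwa [AlgEquiv.apply_symm_apply])
  rw [AlgEquiv.apply_symm_apply] at this
  omega

theorem totalDegree_factor_le {d : ℕ} {T : Type u} [CommRing T] [IsDomain T]
    {p q₁ q₂ : Polynomial (MvPolynomial (Fin d) T)} (h₁ : q₁ ≠ 0) (h₂ : q₂ ≠ 0) (h : q₁ * q₂ = p) :
    ((MvPolynomial.finSuccEquiv T d).symm q₁).totalDegree ≤ ((MvPolynomial.finSuccEquiv T d).symm p).totalDegree ∧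
    ((MvPolynomial.finSuccEquiv T d).symm q₂).totalDegree ≤ ((MvPolynomial.finSuccEquiv T d).symm p).totalDegree := by
  rw [← h, map_mul, totalDegree_mul_of_isDomain (by simpa using h₁) (by simpa using h₂)]
  omega

theorem finSuccEquiv_symm_map {d : ℕ} {T T' : Type u} [CommRing T] [CommRing T'] (f : T →+* T')
    (p : Polynomial (MvPolynomial (Fin d) T)) :
    (MvPolynomial.finSuccEquiv T' d).symm (p.map (MvPolynomial.map f)) =
      MvPolynomial.map f ((MvPolynomial.finSuccEquiv T d).symm p) := by
  apply (MvPolynomial.finSuccEquiv T' d).injective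
  rw [AlgEquiv.apply_symm_apply]
  have : ∀ q : MvPolynomial (Fin (d + 1)) T,
      MvPolynomial.finSuccEquiv T' d (MvPolynomial.map f q) = (MvPolynomial.finSuccEquiv T d q).map (MvPolynomial.map f) := by
    intro q
    apply Polynomial.ext
    intro j
    ext m
    rw [Polynomial.coeff_map, MvPolynomial.coeff_map, finSuccEquiv_coeff_coeff, finSuccEquiv_coeff_coeff,
      MvPolynomial.coeff_map]
  rw [this, AlgEquiv.apply_symm_apply]

/-- Bertini–Noether for monic polynomials. -/
theorem exists_forall_irreducible {d : ℕ} (L : Type u) [Field L] [IsAlgClosed L] [Algebra R L] [FaithfulSMul R L]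
    (P : Polynomial (MvPolynomial (Fin d) R)) (hP : P.Monic) (hdeg : P.natDegree ≠ 0)
    (hirr : Irreducible (P.map (MvPolynomial.map (algebraMap R L)))) :
    ∃ h : R, h ≠ 0 ∧ ∀ (k : Type u) [Field k] [Algebra R k], algebraMap R k h ≠ 0 →
      Irreducible (P.map (MvPolynomial.map (algebraMap R k))) := by
  let n := P.natDegree
  let N := ((MvPolynomial.finSuccEquiv R d).symm P).totalDegree
  have step : ∀ i : ℕ, 1 ≤ i → i < n → ∃ h : R, h ≠ 0 ∧ ∀ (k : Type u) [Field k] [Algebra R k],
      algebraMap R k h ≠ 0 → ∀ q₁ q₂ : Polynomial (MvPolynomial (Fin d) k), q₁.Monic → q₂.Monic →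
        q₁ * q₂ = P.map (MvPolynomial.map (algebraMap R k)) → q₁.natDegree ≠ i := by
    intro i hi1 hin
    let ι : Type := (Fin i × (Fin d → Fin (N + 1))) ⊕ (Fin (n - i) × (Fin d → Fin (N + 1)))
    let σ : Type u := ULift.{u} ι
    let E : Polynomial (MvPolynomial (Fin d) (MvPolynomial σ R)) :=
      genericMonic d i N (fun p => X ⟨Sum.inl p⟩) * genericMonic d (n - i) N (fun p => X ⟨Sum.inr p⟩) -
        P.map (MvPolynomial.map C)
    let I : Ideal (MvPolynomial σ R) := Ideal.span (Set.range fun p : ℕ × (Fin d →₀ ℕ) => (E.coeff p.1).coeff p.2)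
    have heval : ∀ (k : Type u) [Field k] [Algebra R k] (x : σ → k),
        (∀ F ∈ I, aeval x F = 0) ↔
        genericMonic d i N (fun p => x ⟨Sum.inl p⟩) * genericMonic d (n - i) N (fun p => x ⟨Sum.inr p⟩) =
          P.map (MvPolynomial.map (algebraMap R k)) := by
      intro k _ _ x
      have hE : E.map (MvPolynomial.map (aeval (R := R) x).toRingHom) =
          genericMonic d i N (fun p => x ⟨Sum.inl p⟩) * genericMonic d (n - i) N (fun p => x ⟨Sum.inr p⟩) -
          P.map (MvPolynomial.map (algebraMap R k)) := by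
        simp only [E, Polynomial.map_sub, Polynomial.map_mul, genericMonic_map, Polynomial.map_map]
        congr 2
        · congr 1; funext p; simp
        · congr 1; funext p; simp
        · ext r : 2
          · simp
          · simp
      rw [← sub_eq_zero, ← hE]
      constructor
      · intro h
        apply Polynomial.ext
        intro j
        ext m
        rw [Polynomial.coeff_map, MvPolynomial.coeff_map, Polynomial.coeff_zero, MvPolynomial.coeff_zero]
        exact h _ (Ideal.subset_span ⟨(j, m), rfl⟩)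
      · intro h F hF
        have : I ≤ RingHom.ker (aeval (R := R) x).toRingHom := by
          refine Ideal.span_le.mpr ?_
          rintro _ ⟨⟨j, m⟩, rfl⟩
          have := congrArg (fun q : Polynomial (MvPolynomial (Fin d) k) => (q.coeff j).coeff m) h
          simpa [Polynomial.coeff_map, MvPolynomial.coeff_map] using this
        exact this hF
    obtain ⟨h, hh, H⟩ := exists_forall_no_root L I fun x => by
      by_contra hcon
      push Not at hcon
      have e := (heval L x).mp hcon
      have hm : ∀ (j : ℕ) (a : Fin j × (Fin d → Fin (N + 1)) → L),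
          (genericMonic d j N a).Monic ∧ (genericMonic d j N a).natDegree = j := by
        intro j a
        have hlt : (∑ l : Fin j, Polynomial.monomial (l : ℕ) (∑ v, monomial (expo d N v) (a (l, v)))).degree < j := by
          refine lt_of_le_of_lt (Polynomial.degree_sum_le _ _) ((Finset.sup_lt_iff (WithBot.bot_lt_coe j)).mpr fun l _ => ?_)
          exact lt_of_le_of_lt (Polynomial.degree_monomial_le _ _) (WithBot.coe_lt_coe.mpr l.2)
        refine ⟨Polynomial.monic_X_pow_add hlt, Polynomial.natDegree_eq_of_degree_eq_some ?_⟩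
        rw [genericMonic, Polynomial.degree_add_eq_left_of_degree_lt (by rwa [Polynomial.degree_X_pow]),
          Polynomial.degree_X_pow]
      rcases hirr.isUnit_or_isUnit e.symm with hu | hu
      · have := Polynomial.natDegree_eq_zero_of_isUnit hu
        rw [(hm _ _).2] at this
        omega
      · have := Polynomial.natDegree_eq_zero_of_isUnit hu
        rw [(hm _ _).2] at this
        omega
    refine ⟨h, hh, fun k _ _ hk q₁ q₂ hq₁ hq₂ hq hqd => ?_⟩
    have hd₂ : q₂.natDegree = n - i := by
      have := hq₁.natDegree_mul hq₂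
      rw [hq, hP.natDegree_map, hqd] at this
      omega
    have hN : ((MvPolynomial.finSuccEquiv k d).symm (P.map (MvPolynomial.map (algebraMap R k)))).totalDegree ≤ N := by
      rw [finSuccEquiv_symm_map]
      exact Finset.sup_mono (MvPolynomial.support_map_subset _ _)
    obtain ⟨b₁, b₂⟩ := totalDegree_factor_le hq₁.ne_zero hq₂.ne_zero hq
    obtain ⟨a₁, ha₁⟩ := exists_genericMonic d i N q₁ hq₁ hqd fun j => (totalDegree_coeff_le q₁ j).trans (b₁.trans hN)
    obtain ⟨a₂, ha₂⟩ := exists_genericMonic d (n - i) N q₂ hq₂ hd₂ fun j => (totalDegree_coeff_le q₂ j).trans (b₂.trans hN)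
    obtain ⟨F, hF, hne⟩ := H k hk fun s => Sum.elim a₁ a₂ s.down
    refine hne (((heval k _).mpr ?_) F hF)
    show genericMonic d i N a₁ * genericMonic d (n - i) N a₂ = _
    rw [ha₁, ha₂, hq]
  classical
  choose h hh H using step
  let hs : ℕ → R := fun i => if hi : 1 ≤ i ∧ i < n then h i hi.1 hi.2 else 1
  refine ⟨∏ i ∈ Finset.range n, hs i, Finset.prod_ne_zero_iff.mpr fun i _ => ?_, fun k _ _ hk => ?_⟩
  · by_cases hi : 1 ≤ i ∧ i < n
    · simp only [hs, dif_pos hi]; exact hh i hi.1 hi.2
    · simp [hs, dif_neg hi]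
  have hmn : (P.map (MvPolynomial.map (algebraMap R k))).Monic := hP.map _
  rw [hmn.irreducible_iff_natDegree]
  refine ⟨fun h1 => hdeg ?_, fun f g hf hg hfg => ?_⟩
  · rw [← hP.natDegree_map (MvPolynomial.map (algebraMap R k)), h1, Polynomial.natDegree_one]
  · by_contra hcon
    push Not at hcon
    have hsum := hf.natDegree_mul hg
    rw [hfg, hP.natDegree_map] at hsum
    have hi : 1 ≤ f.natDegree ∧ f.natDegree < n := by omega
    rw [map_prod, Finset.prod_ne_zero_iff] at hk
    have := hk f.natDegree (Finset.mem_range.mpr hi.2)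
    simp only [hs, dif_pos hi] at this
    exact H f.natDegree hi.1 hi.2 k this f g hf hg hfg rfl

end GISpreadLib
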