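import Mathlib

/-!
# Finite type domains as radicial covers of hypersurfaces
-/

set_option autoImplicit false
universe u

open Polynomial IntermediateField

namespace GISpreadLib

/-- `q`-th powers are additive in every algebra. -/
def PowAdditive (R : Type u) [CommRing R] (q : ℕ) : Prop :=
  ∀ (T : Type u) [CommRing T] [Algebra R T] (x y : T), (x + y) ^ q = x ^ q + y ^ q

theorem powAdditive_one (R : Type u) [CommRing R] : PowAdditive R 1 := fun T _ _ x y => by simp

theorem powAdditive_prime_pow (R : Type u) [CommRing R] {p : ℕ} (hp : p.Prime) (h0 : (p : R) = 0) (n : ℕ) :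
    PowAdditive R (p ^ n) := fun T _ _ x y => by
  nontriviality T
  haveI : Fact p.Prime := ⟨hp⟩
  have hT : (p : T) = 0 := by rw [← map_natCast (algebraMap R T), h0, map_zero]
  have : CharP T p := (CharP.charP_iff_prime_eq_zero hp).2 hT
  exact add_pow_char_pow x y p n

/-- The powers giving a purely inseparable extension. -/
theorem exists_pow_mem_of_finite (R : Type u) [CommRing R] {F E : Type u} [Field F] [Field E] [Algebra F E] [IsPurelyInseparable F E]
    [Algebra R F] [FaithfulSMul R F]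
    {ι : Type*} (s : Finset ι) (x : ι → E) :
    ∃ q : ℕ, 0 < q ∧ PowAdditive R q ∧ ∀ i ∈ s, x i ^ q ∈ (algebraMap F E).range := by
  obtain ⟨p, hp⟩ := ExpChar.exists F
  choose n hn using fun i => IsPurelyInseparable.pow_mem F p (x i)
  let N := s.sup n
  refine ⟨p ^ N, pow_pos (expChar_pos F p) N, ?_, fun i hi => ?_⟩
  · rcases hp with _ | ⟨hprime⟩
    · rw [one_pow]; exact powAdditive_one R
    · exact powAdditive_prime_pow R hprime (FaithfulSMul.algebraMap_injective R F (by rw [map_natCast, map_zero, CharP.cast_eq_zero F p])) N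
  · obtain ⟨m, hm⟩ := Nat.exists_eq_add_of_le (Finset.le_sup (f := n) hi)
    rw [show p ^ N = p ^ (n i) * p ^ m by rw [← pow_add]; exact congrArg _ hm, pow_mul]
    obtain ⟨c, hc⟩ := hn i
    exact ⟨c ^ p ^ m, by rw [map_pow, hc]⟩

/-- Denominators in an algebraic extension of domains come from the base. -/
theorem exists_denominator {B A F : Type u} [CommRing B] [IsDomain B] [CommRing A] [IsDomain A] [Algebra B A]
    [Algebra.IsAlgebraic B A] [Field F] [Algebra A F] [IsFractionRing A F] (x : F) :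
    ∃ b : B, b ≠ 0 ∧ ∃ a : A, algebraMap A F (algebraMap B A b) * x = algebraMap A F a := by
  obtain ⟨a, s, hs, rfl⟩ := IsFractionRing.div_surjective A x
  obtain ⟨c, d, hd, e⟩ := (Algebra.IsAlgebraic.isAlgebraic (R := B) s).exists_smul_eq_mul a hs
  refine ⟨d, hd, c, ?_⟩
  rw [← mul_div_assoc, ← map_mul, ← Algebra.smul_def, e, map_mul, mul_div_cancel_left₀]
  exact (map_ne_zero_iff _ (IsFractionRing.injective A F)).mpr (nonZeroDivisors.ne_zero hs)

/-- A finite type domain is, generically, a radicial cover of a separable hypersurface over affine space. -/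
theorem exists_presentation (R A : Type u) [CommRing R] [IsDomain R] [CommRing A] [IsDomain A] [Algebra R A]
    [Algebra.FiniteType R A] [FaithfulSMul R A] :
    ∃ (d : ℕ) (φ : MvPolynomial (Fin d) R →ₐ[R] A) (P : (MvPolynomial (Fin d) R)[X])
      (g : MvPolynomial (Fin d) R) (q : ℕ),
      Function.Injective φ ∧ P.Monic ∧ P.natDegree ≠ 0 ∧ g ≠ 0 ∧
      (∃ a b : (MvPolynomial (Fin d) R)[X], a * P + b * derivative P = C g) ∧ PowAdditive R q ∧ 0 < q ∧
      ∀ (N : Type u) [CommRing N] [IsDomain N] [Algebra A N] [FaithfulSMul A N], IsUnit (algebraMap A N (φ g)) →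
        ∃ θ : N, P.eval₂ ((algebraMap A N).comp φ.toRingHom) θ = 0 ∧
          (∀ Q : (MvPolynomial (Fin d) R)[X], Q.natDegree < P.natDegree →
            Q.eval₂ ((algebraMap A N).comp φ.toRingHom) θ = 0 → Q = 0) ∧
          ∀ a : A, ∃ (m : ℕ) (Q : (MvPolynomial (Fin d) R)[X]),
            (algebraMap A N (φ g)) ^ m * algebraMap A N a ^ q = Q.eval₂ ((algebraMap A N).comp φ.toRingHom) θ := by
  classical
  obtain ⟨S, hS⟩ := Algebra.FiniteType.out (R := R) (A := A)
  have : Algebra.IsAlgebraic (Algebra.adjoin R (S : Set A)) A := by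
    refine ⟨fun x => ?_⟩
    have hx : x ∈ Algebra.adjoin R (S : Set A) := hS ▸ Algebra.mem_top
    exact isAlgebraic_algebraMap (⟨x, hx⟩ : Algebra.adjoin R (S : Set A))
  obtain ⟨s, hsS, hs⟩ := exists_isTranscendenceBasis_subset (R := R) (S : Set A)
  have : Fintype s := (S.finite_toSet.subset hsS).fintype
  let d := Fintype.card s
  let t : Fin d → A := fun i => ((Fintype.equivFin s).symm i : A)
  have ht : IsTranscendenceBasis R t :=
    hs.comp_equiv (Fintype.equivFin s).symm
  let φ : MvPolynomial (Fin d) R →ₐ[R] A := MvPolynomial.aeval t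
  have hφ : Function.Injective φ := ht.1
  letI : Algebra (MvPolynomial (Fin d) R) A := φ.toRingHom.toAlgebra
  have : Algebra.IsAlgebraic (MvPolynomial (Fin d) R) A := by
    have := ht.isAlgebraic
    refine ⟨fun x => ?_⟩
    have hx := Algebra.IsAlgebraic.isAlgebraic (R := Algebra.adjoin R (Set.range t)) x
    refine (isAlgebraic_ringHom_iff_of_comp_eq ht.1.aevalEquiv (RingHom.id A) (fun _ _ h => h) ?_).mp hx
    ext z <;> simp [RingHom.algebraMap_toAlgebra, φ]
  let B := MvPolynomial (Fin d) R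
  let F := FractionRing A
  have : FaithfulSMul B A := (faithfulSMul_iff_algebraMap_injective _ _).mpr hφ
  have : IsScalarTower R B A := IsScalarTower.of_algebraMap_eq fun r => (φ.commutes r).symm
  let F₀ := FractionRing B
  letI : Algebra F₀ F := FractionRing.liftAlgebra B F
  have : IsScalarTower B F₀ F := FractionRing.isScalarTower_liftAlgebra B F
  have : Algebra.IsAlgebraic A F := IsLocalization.isAlgebraic F (nonZeroDivisors A)
  have : Algebra.IsAlgebraic B F := Algebra.IsAlgebraic.trans B A F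
  have : Algebra.IsAlgebraic F₀ F := (IsFractionRing.comap_isAlgebraic_iff (A := B) (K := F₀) (C := F)).mp ‹_›
  have : Algebra.FiniteType B A := Algebra.FiniteType.of_restrictScalars_finiteType R B A
  have : Algebra.EssFiniteType B F := Algebra.EssFiniteType.comp B A F
  have : Algebra.EssFiniteType F₀ F := Algebra.EssFiniteType.of_comp B F₀ F
  have : Module.Finite F₀ F := Algebra.finite_of_essFiniteType_of_isAlgebraic
  obtain ⟨α, hα⟩ := Field.exists_primitive_element F₀ (separableClosure F₀ F)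
  let E := separableClosure F₀ F
  -- scale
  let P₀ := minpoly F₀ (α : F)
  obtain ⟨c, hc⟩ := IsLocalization.exist_integer_multiples (nonZeroDivisors B) P₀.support P₀.coeff
  have hc0 : algebraMap B F₀ c ≠ 0 :=
    (map_ne_zero_iff _ (IsFractionRing.injective B F₀)).mpr (nonZeroDivisors.ne_zero c.2)
  let θ₀ : F := algebraMap F₀ F (algebraMap B F₀ c) * (α : F)
  have hαint : IsIntegral F₀ (α : F) := Algebra.IsIntegral.isIntegral _
  have hθint : IsIntegral F₀ θ₀ := Algebra.IsIntegral.isIntegral _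
  have hP₁ : minpoly F₀ θ₀ = scaleRoots P₀ (algebraMap B F₀ c) := by
    refine (minpoly.unique F₀ θ₀ ((monic_scaleRoots_iff _).mpr (minpoly.monic hαint))
      (scaleRoots_aeval_eq_zero (minpoly.aeval F₀ (α : F))) fun Q hQ hQ0 => ?_).symm
    rw [degree_scaleRoots]
    have h1 : aeval (α : F) (Q.comp (C (algebraMap B F₀ c) * X)) = 0 := by
      rw [aeval_comp, map_mul, aeval_C, aeval_X]; exact hQ0
    have h2 := minpoly.degree_le_of_ne_zero F₀ (α : F) ?_ h1
    · refine h2.trans (le_of_eq ?_)
      rw [Polynomial.degree_comp (by rw [Polynomial.degree_C_mul_X hc0]; exact zero_lt_one),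
        Polynomial.degree_C_mul_X hc0, mul_one]
    · intro h
      rcases (Polynomial.comp_eq_zero_iff.mp h) with h | ⟨-, h⟩
      · exact hQ.ne_zero h
      · have := congrArg natDegree h
        rw [Polynomial.natDegree_C_mul_X _ hc0, natDegree_C] at this
        exact one_ne_zero this
  have hlift : minpoly F₀ θ₀ ∈ lifts (algebraMap B F₀) := by
    rw [lifts_iff_coeff_lifts]
    intro j
    rw [hP₁, coeff_scaleRoots]
    by_cases hj : j ∈ P₀.support
    · by_cases hjn : j = P₀.natDegree
      · rw [hjn, coeff_natDegree, (minpoly.monic hαint).leadingCoeff, Nat.sub_self, pow_zero, mul_one]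
        exact ⟨1, map_one _⟩
      · obtain ⟨b, hb⟩ := hc j hj
        have hlt : j < P₀.natDegree := lt_of_le_of_ne (le_natDegree_of_mem_supp j hj) hjn
        obtain ⟨e, he⟩ : ∃ e, P₀.natDegree - j = e + 1 := ⟨_, (Nat.succ_pred_eq_of_pos (by omega)).symm⟩
        refine ⟨b * (c : B) ^ e, ?_⟩
        rw [map_mul, hb, Algebra.smul_def, map_pow, he, pow_succ]
        ring
    · rw [notMem_support_iff.mp hj, zero_mul]
      exact ⟨0, map_zero _⟩
  obtain ⟨P, hPmap, hPdeg, hPmon⟩ := lifts_and_degree_eq_and_monic hlift (minpoly.monic hθint)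
  have hPn : P.natDegree = (minpoly F₀ θ₀).natDegree := natDegree_eq_natDegree hPdeg
  have hαsep : IsSeparable F₀ (α : F) := mem_separableClosure_iff.mp α.2
  have hθsep : IsSeparable F₀ θ₀ := by
    refine mem_separableClosure_iff.mp ?_
    exact (separableClosure F₀ F).mul_mem ((separableClosure F₀ F).algebraMap_mem _) α.2
  obtain ⟨a₀, b₀, hab⟩ : ∃ a b : F₀[X], a * minpoly F₀ θ₀ + b * derivative (minpoly F₀ θ₀) = 1 := hθsep
  obtain ⟨⟨c₁, hc₁⟩, ha⟩ := IsLocalization.integerNormalization_map_to_map (nonZeroDivisors B) a₀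
  obtain ⟨⟨c₂, hc₂⟩, hb⟩ := IsLocalization.integerNormalization_map_to_map (nonZeroDivisors B) b₀
  have hc₁0 := nonZeroDivisors.ne_zero hc₁
  have hc₂0 := nonZeroDivisors.ne_zero hc₂
  -- denominators of the root
  obtain ⟨c₃, hc₃, a₃, ha₃⟩ := exists_denominator (B := B) (A := A) θ₀
  -- radicial generators
  have : FaithfulSMul R F := FaithfulSMul.trans R A F
  have : FaithfulSMul R E := (faithfulSMul_iff_algebraMap_injective _ _).mpr fun x y h =>
    FaithfulSMul.algebraMap_injective R F (congrArg Subtype.val h)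
  obtain ⟨q, hq0, hqadd, hq⟩ := exists_pow_mem_of_finite R (F := E) (E := F) S (fun x => algebraMap A F x)
  have hEgen : ∀ x : E, ∃ (b : B) (Q : B[X]), b ≠ 0 ∧
      algebraMap A F (algebraMap B A b) * (x : F) = Q.eval₂ (algebraMap B F) θ₀ := by
    intro x
    have hx : (x : F) ∈ F₀⟮(α : F)⟯ := by
      have hmem : x ∈ F₀⟮α⟯ := hα ▸ IntermediateField.mem_top
      have := IntermediateField.adjoin_map F₀ ({α} : Set E) E.val
      simp only [Set.image_singleton] at this
      exact this ▸ ⟨x, hmem, rfl⟩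
    rw [← IntermediateField.mem_toSubalgebra, IntermediateField.adjoin_simple_toSubalgebra_of_isAlgebraic
      (Algebra.IsAlgebraic.isAlgebraic _), Algebra.adjoin_singleton_eq_range_aeval] at hx
    obtain ⟨Q₀, hQ₀⟩ := hx
    let Q₁ : F₀[X] := Q₀.comp (C (algebraMap B F₀ c)⁻¹ * X)
    obtain ⟨⟨b, hb'⟩, hQ⟩ := IsLocalization.integerNormalization_map_to_map (nonZeroDivisors B) Q₁
    refine ⟨b, IsLocalization.integerNormalization (nonZeroDivisors B) Q₁, nonZeroDivisors.ne_zero hb', ?_⟩
    have hev : aeval θ₀ Q₁ = (x : F) := by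
      rw [aeval_comp, map_mul, aeval_C, aeval_X, map_inv₀]
      simp only [θ₀, ← mul_assoc]
      rw [inv_mul_cancel₀ ((_root_.map_ne_zero _).mpr hc0), one_mul]
      exact hQ₀
    rw [IsScalarTower.algebraMap_eq B F₀ F, ← eval₂_map, hQ, ← aeval_def, ← algebraMap_smul F₀ (b : B),
      map_smul, hev, Algebra.smul_def, ← IsScalarTower.algebraMap_apply B F₀ F, ← IsScalarTower.algebraMap_apply B A F]
  have hS' : ∀ x ∈ S, ∃ (b : B) (Q : B[X]), b ≠ 0 ∧
      algebraMap A F (algebraMap B A b) * algebraMap A F x ^ q = Q.eval₂ (algebraMap B F) θ₀ := fun x hx => by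
    obtain ⟨y, hy⟩ := hq x hx
    obtain ⟨b, Q, hb0, hbQ⟩ := hEgen y
    exact ⟨b, Q, hb0, by rw [← hy]; exact hbQ⟩
  choose! bS QS hbS hQS using hS'
  let g : B := c₁ * c₂ * c₃ * ∏ x ∈ S, bS x
  have hg : g ≠ 0 := mul_ne_zero (mul_ne_zero (mul_ne_zero hc₁0 hc₂0) hc₃)
    (Finset.prod_ne_zero_iff.mpr hbS)
  refine ⟨d, φ, P, g, q, hφ, hPmon, ?_, hg, ?_, hqadd, hq0, ?_⟩
  · rw [hPn]; exact (minpoly.natDegree_pos hθint).ne'
  · refine ⟨C (c₂ * c₃ * ∏ x ∈ S, bS x) * IsLocalization.integerNormalization (nonZeroDivisors B) a₀,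
      C (c₁ * c₃ * ∏ x ∈ S, bS x) * IsLocalization.integerNormalization (nonZeroDivisors B) b₀, ?_⟩
    apply Polynomial.map_injective (algebraMap B F₀) (IsFractionRing.injective B F₀)
    simp only [Polynomial.map_add, Polynomial.map_mul, map_C, ← derivative_map, hPmap, ha, hb]
    simp only [g, Submonoid.smul_def, ← Polynomial.C_mul', Algebra.smul_def, Polynomial.algebraMap_def,
      RingHom.coe_comp, Function.comp_apply, map_mul]
    linear_combination (C (algebraMap B F₀ c₁) * C (algebraMap B F₀ c₂) * C (algebraMap B F₀ c₃) *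
      C (algebraMap B F₀ (∏ x ∈ S, bS x))) * hab
  intro N _ _ _ _ hu
  let L := FractionRing N
  let ε : F →ₐ[A] L := IsFractionRing.liftAlgHom (g := Algebra.ofId A L) (FaithfulSMul.algebraMap_injective A L)
  have hεA : ∀ a : A, ε (algebraMap A F a) = algebraMap N L (algebraMap A N a) := fun a => by
    rw [AlgHom.commutes, IsScalarTower.algebraMap_apply A N L]
  obtain ⟨u, hu'⟩ := isUnit_of_dvd_unit (map_dvd _ (map_dvd φ (show c₃ ∣ g from
    Dvd.dvd.mul_right (Dvd.intro_left _ rfl) _))) hu
  let θ : N := algebraMap A N a₃ * ↑u⁻¹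
  let ψ : B →+* N := (algebraMap A N).comp φ.toRingHom
  have hθ : algebraMap N L θ = ε θ₀ := by
    have h := congrArg ε ha₃
    rw [map_mul, hεA, hεA, show algebraMap A N (algebraMap B A c₃) = u from hu'.symm] at h
    have hu0 : algebraMap N L u ≠ 0 := (u.isUnit.map _).ne_zero
    apply mul_left_cancel₀ hu0
    rw [h, ← map_mul]
    congr 1
    rw [mul_comm, mul_assoc, Units.inv_mul, mul_one]
  have hcomp : (algebraMap N L).comp ψ = ε.toRingHom.comp (algebraMap B F) := RingHom.ext fun b => by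
    show algebraMap N L (algebraMap A N (φ b)) = ε (algebraMap B F b)
    rw [IsScalarTower.algebraMap_apply B A F, hεA]
    rfl
  have hev : ∀ Q : B[X], algebraMap N L (Q.eval₂ ψ θ) = ε (Q.eval₂ (algebraMap B F) θ₀) := fun Q => by
    rw [hom_eval₂, hcomp, hθ]
    exact (hom_eval₂ Q (algebraMap B F) ε.toRingHom θ₀).symm
  have hinjL : Function.Injective (algebraMap N L) := IsFractionRing.injective N L
  refine ⟨θ, hinjL ?_, fun Q hQd hQ => ?_, fun a => ?_⟩
  · rw [hev, map_zero, IsScalarTower.algebraMap_eq B F₀ F, ← eval₂_map, hPmap, ← aeval_def, minpoly.aeval, map_zero]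
  · have h0 := congrArg (algebraMap N L) hQ
    rw [hev, map_zero, map_eq_zero_iff ε ε.toRingHom.injective, IsScalarTower.algebraMap_eq B F₀ F, ← eval₂_map,
      ← aeval_def] at h0
    by_contra hne
    have hne' : Q.map (algebraMap B F₀) ≠ 0 :=
      (Polynomial.map_ne_zero_iff (IsFractionRing.injective B F₀)).mpr hne
    have := natDegree_le_of_dvd (minpoly.dvd F₀ θ₀ h0) hne'
    rw [← hPn] at this
    exact absurd ((this.trans natDegree_map_le).trans_lt hQd) (lt_irrefl _)
  · letI : Algebra R N := ((algebraMap A N).comp (algebraMap R A)).toAlgebra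
    have hmem : a ∈ Algebra.adjoin R (S : Set A) := hS ▸ Algebra.mem_top
    induction hmem using Algebra.adjoin_induction with
    | mem x hx =>
      obtain ⟨e, he⟩ : bS x ∣ g := Dvd.dvd.mul_left (Finset.dvd_prod_of_mem _ hx) _
      refine ⟨1, C e * QS x, hinjL ?_⟩
      rw [hev, eval₂_mul, eval₂_C, map_mul ε, ← hQS x hx, map_mul ε, map_pow ε, IsScalarTower.algebraMap_apply B A F,
        hεA, hεA, hεA, pow_one, map_mul, map_pow, he]
      show algebraMap N L (algebraMap A N (φ (bS x * e))) * _ = algebraMap N L (algebraMap A N (φ e)) *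
        (algebraMap N L (algebraMap A N (φ (bS x))) * _)
      rw [map_mul φ, map_mul, map_mul]
      ring
    | algebraMap r =>
      refine ⟨0, C (MvPolynomial.C r ^ q), ?_⟩
      rw [eval₂_C, pow_zero, one_mul, RingHom.comp_apply, map_pow, map_pow]
      congr 2
      exact (φ.commutes r).symm
    | add x y _ _ hx hy =>
      obtain ⟨m, Q, hm⟩ := hx
      obtain ⟨n, Q', hn⟩ := hy
      refine ⟨m + n, C (g ^ n) * Q + C (g ^ m) * Q', ?_⟩
      rw [eval₂_add, eval₂_mul, eval₂_mul, eval₂_C, eval₂_C, ← hm, ← hn, map_pow, map_pow, map_add,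
        hqadd N, pow_add, RingHom.comp_apply]
      show _ = algebraMap A N (φ g) ^ n * _ + algebraMap A N (φ g) ^ m * _
      ring
    | mul x y _ _ hx hy =>
      obtain ⟨m, Q, hm⟩ := hx
      obtain ⟨n, Q', hn⟩ := hy
      exact ⟨m + n, Q * Q', by rw [eval₂_mul, ← hm, ← hn, map_mul (algebraMap A N) x y, mul_pow, pow_add]; ring⟩

end GISpreadLib
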