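import Mathlib
import Groth.Agent.GISpreadLib.Tower
import Groth.Agent.GISpreadLib.Bertini

/-!
# Fibres of radicial covers of hypersurfaces
-/

set_option autoImplicit false
universe u

open TensorProduct Polynomial

namespace GISpreadLib

variable {R : Type u} [CommRing R] {d : ℕ} (k : Type u) [CommRing k] [Algebra R k]

/-- Coefficient base change of polynomial rings. -/
noncomputable def baseEquiv : MvPolynomial (Fin d) R ⊗[R] k ≃+* MvPolynomial (Fin d) k :=
  (Algebra.TensorProduct.comm R _ _).toRingEquiv.trans (MvPolynomial.algebraTensorAlgEquiv R k).toRingEquiv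

theorem baseEquiv_tmul_one (b : MvPolynomial (Fin d) R) :
    baseEquiv k (b ⊗ₜ (1 : k)) = MvPolynomial.map (algebraMap R k) b := by
  simp [baseEquiv]

variable {A N : Type u} [CommRing A] [Algebra R A] [CommRing N] [Algebra R N] [Algebra A N] [IsScalarTower R A N]

variable (R A N) in
/-- The localization map after base change. -/
noncomputable def locMap : A ⊗[R] k →ₐ[R] N ⊗[R] k :=
  Algebra.TensorProduct.map (IsScalarTower.toAlgHom R A N) (AlgHom.id R k)

theorem locMap_tmul (a : A) (c : k) : locMap R k A N (a ⊗ₜ c) = algebraMap A N a ⊗ₜ c := rfl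

theorem smul_eq_mul_tmul (s : A) (z : N ⊗[R] k) : s • z = (algebraMap A N s ⊗ₜ (1 : k)) * z := by
  induction z using TensorProduct.induction_on with
  | zero => simp
  | add a b ha hb => rw [smul_add, ha, hb, mul_add]
  | tmul n c => rw [smul_tmul', Algebra.TensorProduct.tmul_mul_tmul, one_mul, Algebra.smul_def]

variable (g : A) [IsLocalization.Away g N]

theorem locMap_isLocalized : IsLocalizedModule (Submonoid.powers g)
    (AlgebraTensorModule.rTensor R k (Algebra.linearMap A N)) := by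
  haveI : IsLocalizedModule (Submonoid.powers g) (Algebra.linearMap A N) :=
    (isLocalizedModule_iff_isLocalization' _ _).mpr inferInstance
  infer_instance

omit [IsLocalization.Away g N] in
theorem rTensor_eq_locMap (w : A ⊗[R] k) :
    AlgebraTensorModule.rTensor R k (Algebra.linearMap A N) w = locMap R k A N w := by
  induction w using TensorProduct.induction_on with
  | zero => simp
  | add a b ha hb => rw [map_add, map_add, ha, hb]
  | tmul a c => rfl

theorem exists_mul_locMap (z : N ⊗[R] k) :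
    ∃ (m : ℕ) (w : A ⊗[R] k), (algebraMap A N g ⊗ₜ (1 : k)) ^ m * z = locMap R k A N w := by
  have := locMap_isLocalized (R := R) k (A := A) (N := N) g
  obtain ⟨⟨w, ⟨_, m, rfl⟩⟩, hw⟩ := IsLocalizedModule.surj (Submonoid.powers g)
    (AlgebraTensorModule.rTensor R k (Algebra.linearMap A N)) z
  refine ⟨m, w, ?_⟩
  rw [Submonoid.smul_def, smul_eq_mul_tmul k, map_pow] at hw
  rw [Algebra.TensorProduct.tmul_pow, one_pow, hw, rTensor_eq_locMap]

theorem locMap_eq_zero (w : A ⊗[R] k) (hw : locMap R k A N w = 0) :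
    ∃ m : ℕ, (g ⊗ₜ (1 : k)) ^ m * w = 0 := by
  have := locMap_isLocalized (R := R) k (A := A) (N := N) g
  obtain ⟨⟨_, m, rfl⟩, hm⟩ := (IsLocalizedModule.eq_zero_iff (Submonoid.powers g)
    (AlgebraTensorModule.rTensor R k (Algebra.linearMap A N))).mp ((rTensor_eq_locMap k w).trans hw)
  refine ⟨m, ?_⟩
  rw [Submonoid.smul_def, smul_eq_mul_tmul k] at hm
  rw [Algebra.TensorProduct.tmul_pow, one_pow]
  simpa using hm

theorem isNilpotent_locMap (hg : (g ⊗ₜ (1 : k) : A ⊗[R] k) ∈ nonZeroDivisors (A ⊗[R] k)) (w : A ⊗[R] k)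
    (hw : IsNilpotent (locMap R k A N w)) : IsNilpotent w := by
  obtain ⟨n, hn⟩ := hw
  rw [← map_pow] at hn
  obtain ⟨m, hm⟩ := locMap_eq_zero k g _ hn
  exact ⟨n, (mem_nonZeroDivisors_iff.mp (pow_mem hg m)).1 _ hm⟩

theorem isPrime_nilradical_of_loc
    (hg : (g ⊗ₜ (1 : k) : A ⊗[R] k) ∈ nonZeroDivisors (A ⊗[R] k))
    (h : (nilradical (N ⊗[R] k)).IsPrime) : (nilradical (A ⊗[R] k)).IsPrime := by
  have : nilradical (A ⊗[R] k) = (nilradical (N ⊗[R] k)).comap (locMap R k A N) := by
    ext w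
    exact ⟨fun hw => IsNilpotent.map hw _, fun hw => isNilpotent_locMap k g hg w hw⟩
  rw [this]
  exact Ideal.IsPrime.comap _

include g in
theorem isPrime_nilradical_loc [Nontrivial (N ⊗[R] k)]
    (h : (nilradical (A ⊗[R] k)).IsPrime) : (nilradical (N ⊗[R] k)).IsPrime := by
  let G : N ⊗[R] k := algebraMap A N g ⊗ₜ (1 : k)
  have hG : IsUnit G := (IsLocalization.Away.algebraMap_isUnit (S := N) g).map (Algebra.TensorProduct.includeLeft (R := R) (S := R) (B := k))
  refine ⟨fun htop => not_isNilpotent_one (show (1 : N ⊗[R] k) ∈ nilradical _ from htop ▸ Submodule.mem_top), ?_⟩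
  intro x y hxy
  obtain ⟨m, a, ha⟩ := exists_mul_locMap k g x
  obtain ⟨n, b, hb⟩ := exists_mul_locMap k g y
  have hab : locMap R k A N (a * b) ∈ nilradical (N ⊗[R] k) := by
    rw [map_mul, ← ha, ← hb, mul_mul_mul_comm]
    exact Ideal.mul_mem_left _ _ hxy
  obtain ⟨l, hl⟩ := hab
  rw [← map_pow] at hl
  obtain ⟨r, hr⟩ := locMap_eq_zero k g _ hl
  have hgn : (g ⊗ₜ (1 : k) : A ⊗[R] k) ∉ nilradical (A ⊗[R] k) := fun hn => by
    obtain ⟨i, hi⟩ := (IsNilpotent.map hn (locMap R k A N) : IsNilpotent G)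
    exact (hG.pow i).ne_zero hi
  have hmem : (g ⊗ₜ (1 : k)) ^ r * (a * b) ^ l ∈ nilradical (A ⊗[R] k) := hr ▸ Ideal.zero_mem _
  rcases h.mem_or_mem hmem with h1 | h1
  · exact absurd (h.mem_of_pow_mem _ h1) hgn
  rcases h.mem_or_mem (h.mem_of_pow_mem _ h1) with h2 | h2
  · left
    have : IsNilpotent (G ^ m * x) := ha ▸ IsNilpotent.map h2 _
    exact (Ideal.unit_mul_mem_iff_mem _ (hG.pow m)).mp this
  · right
    have : IsNilpotent (G ^ n * y) := hb ▸ IsNilpotent.map h2 _
    exact (Ideal.unit_mul_mem_iff_mem _ (hG.pow n)).mp this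

omit [IsLocalization.Away g N] in
/-- Radicial maps do not identify minimal primes over the same prime. -/
theorem isPrime_nilradical_of_contraction {D M : Type u} [CommRing D] [CommRing M] [Nontrivial M] (ψ : D →+* M)
    (G : M) (hG : IsUnit G) (q : ℕ) (hq : 0 < q) (hz : ∀ z : M, ∃ (m : ℕ) (f : D), G ^ m * z ^ q = ψ f)
    (p : Ideal D) (hmin : ∀ Q ∈ minimalPrimes M, Q.comap ψ = p) : (nilradical M).IsPrime := by
  obtain ⟨J, hJ⟩ := Ideal.exists_maximal M
  obtain ⟨Q₀, hQ₀, -⟩ := Ideal.exists_minimalPrimes_le (I := (⊥ : Ideal M)) (J := J) bot_le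
  have hQ₀p : Q₀.IsPrime := hQ₀.1.1
  have mem : ∀ Q ∈ minimalPrimes M, ∀ z, z ∈ Q ↔ z ∈ Q₀ := by
    intro Q hQ z
    have hQp : Q.IsPrime := hQ.1.1
    obtain ⟨m, f, hf⟩ := hz z
    have key : ∀ J : Ideal M, J.IsPrime → (z ∈ J ↔ ψ f ∈ J) := fun J hJ => by
      rw [← hf, Ideal.unit_mul_mem_iff_mem _ (hG.pow m), hJ.pow_mem_iff_mem q hq]
    rw [key Q hQp, key Q₀ hQ₀p, ← Ideal.mem_comap, ← Ideal.mem_comap, hmin Q hQ, hmin Q₀ hQ₀]
  have : nilradical M = Q₀ := by
    refine le_antisymm (nilradical_le_prime Q₀) fun z hz' => ?_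
    show z ∈ (⊥ : Ideal M).radical
    rw [← Ideal.sInf_minimalPrimes, Submodule.mem_sInf]
    exact fun Q hQ => (mem Q hQ z).mpr hz'
  rw [this]
  exact hQ₀p

end GISpreadLib

namespace GISpreadLib

variable {R : Type u} [CommRing R] {d : ℕ} {N : Type u} [CommRing N] [Algebra R N]
  (χ : MvPolynomial (Fin d) R →ₐ[R] N) (θ : N) (k : Type u) [Field k] [Algebra R k]

/-- The coefficient map after base change. -/
noncomputable def coeffMap : MvPolynomial (Fin d) R ⊗[R] k →+* N ⊗[R] k :=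
  (Algebra.TensorProduct.map χ (AlgHom.id R k)).toRingHom

/-- The evaluation map after base change. -/
noncomputable def evalMap : (MvPolynomial (Fin d) R ⊗[R] k)[X] →+* N ⊗[R] k :=
  Polynomial.eval₂RingHom (coeffMap χ k) (θ ⊗ₜ (1 : k))

/-- Polynomials after base change. -/
noncomputable def bc (Q : (MvPolynomial (Fin d) R)[X]) : (MvPolynomial (Fin d) R ⊗[R] k)[X] :=
  Q.map (Algebra.TensorProduct.includeLeftRingHom : MvPolynomial (Fin d) R →+* _)

theorem evalMap_bc (Q : (MvPolynomial (Fin d) R)[X]) :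
    evalMap χ θ k (bc k Q) = (Q.eval₂ χ.toRingHom θ) ⊗ₜ (1 : k) := by
  show _ = (Algebra.TensorProduct.includeLeftRingHom : N →+* N ⊗[R] k) _
  rw [evalMap, bc, coe_eval₂RingHom, eval₂_map, hom_eval₂]
  rfl

theorem isDomain_base : IsDomain (MvPolynomial (Fin d) R ⊗[R] k) :=
  (baseEquiv (R := R) (d := d) k).toMulEquiv.isDomain

theorem map_bc (Q : (MvPolynomial (Fin d) R)[X]) :
    (bc k Q).map (baseEquiv (R := R) (d := d) k).toRingHom = Q.map (MvPolynomial.map (algebraMap R k)) := by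
  rw [bc, Polynomial.map_map]
  congr 1
  exact RingHom.ext fun b => baseEquiv_tmul_one k b

theorem irreducible_ringEquiv {S T : Type u} [CommRing S] [CommRing T] (e : S ≃+* T) {x : S} :
    Irreducible (e x) ↔ Irreducible x := MulEquiv.irreducible_iff e

theorem prime_ringEquiv {S T : Type u} [CommRing S] [CommRing T] (e : S ≃+* T) {x : S} :
    Prime (e x) ↔ Prime x := MulEquiv.prime_iff e

theorem irreducible_bc_iff (Q : (MvPolynomial (Fin d) R)[X]) :
    Irreducible (bc k Q) ↔ Irreducible (Q.map (MvPolynomial.map (algebraMap R k))) := by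
  rw [← map_bc]
  exact (irreducible_ringEquiv (S := (MvPolynomial (Fin d) R ⊗[R] k)[X]) (T := (MvPolynomial (Fin d) k)[X]) (Polynomial.mapEquiv (baseEquiv (R := R) (d := d) k))).symm

theorem prime_bc (Q : (MvPolynomial (Fin d) R)[X]) (h : Irreducible (Q.map (MvPolynomial.map (algebraMap R k)))) :
    Prime (bc k Q) := by
  refine (prime_ringEquiv (S := (MvPolynomial (Fin d) R ⊗[R] k)[X]) (T := (MvPolynomial (Fin d) k)[X]) (Polynomial.mapEquiv (baseEquiv (R := R) (d := d) k))).mp ?_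
  have := UniqueFactorizationMonoid.irreducible_iff_prime.mp h
  rwa [← map_bc] at this

theorem coeffMap_injective_mul [letI : Algebra (MvPolynomial (Fin d) R) N := χ.toRingHom.toAlgebra
      Module.Flat (MvPolynomial (Fin d) R) N]
    {c : MvPolynomial (Fin d) R ⊗[R] k} (hc : c ≠ 0) : coeffMap χ k c ∈ nonZeroDivisors (N ⊗[R] k) := by
  letI : Algebra (MvPolynomial (Fin d) R) N := χ.toRingHom.toAlgebra
  haveI : IsScalarTower R (MvPolynomial (Fin d) R) N := IsScalarTower.of_algebraMap_eq fun r => (χ.commutes r).symm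
  haveI := isDomain_base (R := R) (d := d) k
  let e := TensorProduct.AlgebraTensorModule.cancelBaseChange R (MvPolynomial (Fin d) R) (MvPolynomial (Fin d) R) N k
  let μ := LinearMap.mulLeft (MvPolynomial (Fin d) R) c
  have hμ : Function.Injective μ := fun a b h => mul_left_cancel₀ hc h
  have hinj := Module.Flat.lTensor_preserves_injective_linearMap (M := N) μ hμ
  have comm0 : ∀ (c' : MvPolynomial (Fin d) R ⊗[R] k) (n : N) (y : MvPolynomial (Fin d) R ⊗[R] k),
      e (n ⊗ₜ (c' * y)) = coeffMap χ k c' * e (n ⊗ₜ y) := by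
    intro c' n y
    induction c' using TensorProduct.induction_on with
    | zero => simp
    | add x y' hx hy => rw [add_mul, TensorProduct.tmul_add, map_add, hx, hy, map_add, add_mul]
    | tmul b' s' =>
      induction y using TensorProduct.induction_on with
      | zero => simp
      | add a b ha hb => rw [mul_add, TensorProduct.tmul_add, map_add, ha, hb, TensorProduct.tmul_add, map_add, mul_add]
      | tmul b s =>
        rw [Algebra.TensorProduct.tmul_mul_tmul]
        simp only [e, AlgebraTensorModule.cancelBaseChange_tmul]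
        show ((b' * b) • n) ⊗ₜ (s' * s) = (χ b' ⊗ₜ s') * ((b • n) ⊗ₜ s)
        rw [Algebra.TensorProduct.tmul_mul_tmul, mul_smul, Algebra.smul_def]
        rfl
  have comm : ∀ z, e (μ.lTensor N z) = coeffMap χ k c * e z := by
    intro z
    induction z using TensorProduct.induction_on with
    | zero => simp
    | add a b ha hb => rw [map_add, map_add, map_add, ha, hb, mul_add]
    | tmul n y => exact comm0 c n y
  have hinj' : ∀ z, coeffMap χ k c * z = 0 → z = 0 := by
    intro z hz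
    obtain ⟨w, rfl⟩ := e.surjective z
    rw [← comm, map_eq_zero_iff _ e.injective] at hz
    rw [hinj (hz.trans (map_zero _).symm), map_zero]
  rw [mem_nonZeroDivisors_iff]
  exact ⟨hinj', fun z hz => hinj' z (by rwa [mul_comm])⟩

/-- The fibre of a radicial cover of an irreducible hypersurface has a unique generic point. -/
theorem isPrime_nilradical_fibre [letI : Algebra (MvPolynomial (Fin d) R) N := χ.toRingHom.toAlgebra
      Module.Flat (MvPolynomial (Fin d) R) N] [Nontrivial (N ⊗[R] k)]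
    (P : (MvPolynomial (Fin d) R)[X]) (hP : P.Monic)
    (hirr : Irreducible (P.map (MvPolynomial.map (algebraMap R k))))
    (hθ : P.eval₂ χ.toRingHom θ = 0) (g : MvPolynomial (Fin d) R) (hg : IsUnit (χ g))
    (q : ℕ) (hq : 0 < q) (hadd : PowAdditive R q)
    (hgen : ∀ n : N, ∃ (m : ℕ) (Q : (MvPolynomial (Fin d) R)[X]), χ g ^ m * n ^ q = Q.eval₂ χ.toRingHom θ) :
    (nilradical (N ⊗[R] k)).IsPrime := by
  let C₀ := MvPolynomial (Fin d) R ⊗[R] k
  haveI : IsDomain C₀ := isDomain_base (R := R) (d := d) k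
  let PC : C₀[X] := bc k P
  have hPC : PC.Monic := hP.map _
  have hprime : Prime PC := prime_bc k P hirr
  let G : N ⊗[R] k := χ g ⊗ₜ (1 : k)
  have hG : IsUnit G := hg.map (Algebra.TensorProduct.includeLeft (R := R) (S := R) (B := k))
  refine isPrime_nilradical_of_contraction (evalMap χ θ k) G hG q hq (fun z => ?_) (Ideal.span {PC}) fun Q hQ => ?_
  · induction z using TensorProduct.induction_on with
    | zero => exact ⟨0, 0, by rw [zero_pow hq.ne', mul_zero, map_zero]⟩
    | tmul n c =>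
      obtain ⟨m, Q, hQ⟩ := hgen n
      refine ⟨m, bc k Q * C ((1 : MvPolynomial (Fin d) R) ⊗ₜ (c ^ q)), ?_⟩
      rw [map_mul, evalMap_bc, ← hQ, evalMap, coe_eval₂RingHom, eval₂_C]
      show _ = _ * (χ 1 ⊗ₜ (c ^ q))
      rw [map_one, Algebra.TensorProduct.tmul_pow, Algebra.TensorProduct.tmul_pow, Algebra.TensorProduct.tmul_mul_tmul,
        Algebra.TensorProduct.tmul_mul_tmul, one_pow, one_mul, mul_one]
    | add x y hx hy =>
      obtain ⟨m, f, hm⟩ := hx
      obtain ⟨n, f', hn⟩ := hy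
      refine ⟨m + n, bc k (C (g ^ n)) * f + bc k (C (g ^ m)) * f', ?_⟩
      rw [map_add, map_mul, map_mul, evalMap_bc, evalMap_bc, eval₂_C, eval₂_C, ← hm, ← hn,
        hadd (N ⊗[R] k) x y, map_pow, map_pow]
      have hpow : ∀ j : ℕ, (χ.toRingHom g ^ j) ⊗ₜ[R] (1 : k) = G ^ j := fun j => by
        rw [Algebra.TensorProduct.tmul_pow, one_pow]; rfl
      rw [hpow m, hpow n]
      rw [pow_add]
      ring
  · have hQp : Q.IsPrime := hQ.1.1
    let π := Ideal.Quotient.mk Q
    have hroot : PC.eval₂ (π.comp (coeffMap χ k)) (π (θ ⊗ₜ (1 : k))) = 0 := by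
      rw [← hom_eval₂]
      have := evalMap_bc χ θ k P
      rw [hθ, TensorProduct.zero_tmul] at this
      rw [show PC.eval₂ (coeffMap χ k) (θ ⊗ₜ (1 : k)) = 0 from this, map_zero]
    haveI : IsDomain (AdjoinRoot PC) := AdjoinRoot.isDomain_of_prime hprime
    haveI : Module.Finite C₀ (AdjoinRoot PC) := hPC.finite_adjoinRoot
    let L := AdjoinRoot.lift (π.comp (coeffMap χ k)) (π (θ ⊗ₜ (1 : k))) hroot
    have hbot : RingHom.ker L = ⊥ := by
      refine Ideal.eq_bot_of_comap_eq_bot (R := C₀) ?_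
      rw [eq_bot_iff]
      intro c hc
      rw [Ideal.mem_comap, RingHom.mem_ker, AdjoinRoot.algebraMap_eq, AdjoinRoot.lift_of, RingHom.comp_apply,
        Ideal.Quotient.eq_zero_iff_mem] at hc
      by_contra hne
      exact Set.disjoint_left.mp (Ideal.disjoint_nonZeroDivisors_of_mem_minimalPrimes hQ) hc
        (coeffMap_injective_mul χ k hne)
    ext f
    rw [Ideal.mem_comap, ← AdjoinRoot.mk_eq_zero (f := PC) |>.trans Ideal.mem_span_singleton.symm]
    have e : L (AdjoinRoot.mk PC f) = π (evalMap χ θ k f) := by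
      rw [AdjoinRoot.lift_mk, ← hom_eval₂]; rfl
    rw [← Ideal.Quotient.eq_zero_iff_mem]
    refine e ▸ ⟨fun h => ?_, fun h => by rw [h, map_zero]⟩
    exact (Ideal.mem_bot).mp (hbot ▸ (RingHom.mem_ker.mpr h))

/-- Over a flat field, low degree polynomials do not vanish at the root. -/
theorem eq_zero_of_evalMap [Module.Flat R k] (n : ℕ)
    (hinj : ∀ Q : (MvPolynomial (Fin d) R)[X], Q.natDegree < n → Q.eval₂ χ.toRingHom θ = 0 → Q = 0)
    (f : (MvPolynomial (Fin d) R ⊗[R] k)[X]) (hf : f.natDegree < n) (h0 : evalMap χ θ k f = 0) : f = 0 := by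
  classical
  let Θ : (Fin n → MvPolynomial (Fin d) R) →ₗ[R] N :=
    { toFun := fun v => ∑ j : Fin n, χ (v j) * θ ^ (j : ℕ)
      map_add' := fun v w => by simp [add_mul, Finset.sum_add_distrib]
      map_smul' := fun r v => by simp [Finset.smul_sum] }
  have hΘ : Function.Injective Θ := by
    rw [injective_iff_map_eq_zero]
    intro v hv
    let Q : (MvPolynomial (Fin d) R)[X] := ∑ j : Fin n, monomial (j : ℕ) (v j)
    have hQ : Q = 0 := by
      refine hinj Q ?_ ?_
      · rcases Nat.eq_zero_or_pos n with rfl | hn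
        · omega
        · refine lt_of_le_of_lt (natDegree_sum_le _ _) ?_
          refine (Finset.fold_max_lt _).mpr ⟨hn, fun j _ => lt_of_le_of_lt (natDegree_monomial_le _) j.2⟩
      · rw [eval₂_finsetSum]; simp only [eval₂_monomial]; exact hv
    funext j
    have := congrArg (fun p : (MvPolynomial (Fin d) R)[X] => p.coeff j) hQ
    simp only [Q, finsetSum_coeff, coeff_monomial, coeff_zero] at this
    rw [Finset.sum_eq_single j (fun i _ hi => if_neg (fun h => hi (Fin.ext h))) (by simp), if_pos rfl] at this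
    exact this
  have hflat := Module.Flat.rTensor_preserves_injective_linearMap (M := k) Θ hΘ
  let e := TensorProduct.piLeft R k (fun _ : Fin n => MvPolynomial (Fin d) R)
  have comm : ∀ y, Θ.rTensor k y = ∑ j : Fin n, coeffMap χ k (e y j) * (θ ⊗ₜ[R] (1 : k)) ^ (j : ℕ) := by
    intro y
    induction y using TensorProduct.induction_on with
    | zero => simp
    | add a b ha hb => simp only [map_add, ha, hb, Pi.add_apply, add_mul, Finset.sum_add_distrib]
    | tmul v c =>
      rw [LinearMap.rTensor_tmul]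
      show (∑ j : Fin n, χ (v j) * θ ^ (j : ℕ)) ⊗ₜ c = _
      rw [TensorProduct.sum_tmul]
      refine Finset.sum_congr rfl fun j _ => ?_
      have : e (v ⊗ₜ c) j = v j ⊗ₜ c := by simp [e]
      rw [this]
      show _ = (χ (v j) ⊗ₜ c) * (θ ⊗ₜ[R] (1 : k)) ^ (j : ℕ)
      rw [Algebra.TensorProduct.tmul_pow, one_pow, Algebra.TensorProduct.tmul_mul_tmul, mul_one]
  have hz : e.symm (fun j : Fin n => f.coeff j) = 0 := hflat (by
    rw [comm, map_zero, e.apply_symm_apply, ← h0, evalMap, coe_eval₂RingHom, eval₂_eq_sum_range' _ hf,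
      Finset.sum_range])
  ext j
  rw [coeff_zero]
  by_cases hj : j < n
  · have h2 := congrArg e hz
    rw [e.apply_symm_apply, map_zero] at h2
    exact congrFun h2 ⟨j, hj⟩
  · exact coeff_eq_zero_of_natDegree_lt (by omega)

theorem dvd_pow_of_mem_span_pair {T : Type u} [CommRing T] {F₁ F₂ x : T} {M : ℕ} (hdvd : F₂ ∣ F₁ ^ M)
    (hx : x ∈ Ideal.span {F₁, F₂}) : F₂ ∣ x ^ M := by
  obtain ⟨s, t, rfl⟩ := Ideal.mem_span_pair.mp hx
  obtain ⟨w, hw⟩ := sub_dvd_pow_sub_pow (s * F₁ + t * F₂) (s * F₁) M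
  have h2 : F₂ ∣ (s * F₁ + t * F₂) ^ M - (s * F₁) ^ M := ⟨t * w, by rw [hw]; ring⟩
  have h3 : F₂ ∣ (s * F₁) ^ M := by rw [mul_pow]; exact hdvd.mul_left _
  simpa using dvd_add h2 h3

/-- A hypersurface under an irreducible radicial cover is irreducible. -/
theorem irreducible_of_isPrime_nilradical [Module.Flat R k] [FaithfulSMul R k]
    (P : (MvPolynomial (Fin d) R)[X]) (hP : P.Monic) (hdeg : P.natDegree ≠ 0)
    (hθ : P.eval₂ χ.toRingHom θ = 0)
    (hinj : ∀ Q : (MvPolynomial (Fin d) R)[X], Q.natDegree < P.natDegree → Q.eval₂ χ.toRingHom θ = 0 → Q = 0)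
    (g : MvPolynomial (Fin d) R) (hg : g ≠ 0)
    (hsep : ∃ a b : (MvPolynomial (Fin d) R)[X], a * P + b * derivative P = C g)
    (hN : (nilradical (N ⊗[R] k)).IsPrime) :
    Irreducible (P.map (MvPolynomial.map (algebraMap R k))) := by
  let C₀ := MvPolynomial (Fin d) R ⊗[R] k
  haveI : IsDomain C₀ := isDomain_base (R := R) (d := d) k
  let PC : C₀[X] := bc k P
  have hPC : PC.Monic := hP.map _
  have hroot : evalMap χ θ k PC = 0 := by rw [evalMap_bc, hθ, TensorProduct.zero_tmul]
  have hker : ∀ f, evalMap χ θ k f = 0 → PC ∣ f := by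
    intro f hf
    rw [← modByMonic_eq_zero_iff_dvd hPC]
    have hne1 : PC ≠ 1 := fun h => hdeg (by rw [← hP.natDegree_map (Algebra.TensorProduct.includeLeftRingHom : _ →+* C₀)]; exact (congrArg natDegree h).trans natDegree_one)
    refine eq_zero_of_evalMap χ θ k P.natDegree hinj _ ?_ ?_
    · rw [← hP.natDegree_map (Algebra.TensorProduct.includeLeftRingHom : _ →+* C₀)]
      exact natDegree_modByMonic_lt f hPC hne1
    · have := congrArg (evalMap χ θ k) (modByMonic_add_div f PC)
      rwa [map_add, map_mul, hroot, zero_mul, add_zero, hf] at this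
  rw [← irreducible_bc_iff, hPC.irreducible_iff_natDegree]
  refine ⟨fun h => hdeg ?_, fun Q₁ Q₂ h₁ h₂ hQ => ?_⟩
  · rw [← hP.natDegree_map (Algebra.TensorProduct.includeLeftRingHom : _ →+* C₀)]
    exact (congrArg natDegree h).trans natDegree_one
  by_contra hcon
  push Not at hcon
  have hgC : (g ⊗ₜ (1 : k) : C₀) ≠ 0 := fun h => hg (by
    have := congrArg (baseEquiv (R := R) (d := d) k) h
    rw [baseEquiv_tmul_one, map_zero] at this
    exact (map_eq_zero_iff _ (MvPolynomial.map_injective _ (FaithfulSMul.algebraMap_injective R k))).mp this)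
  obtain ⟨a, b, hab⟩ := hsep
  have hgmem : C (g ⊗ₜ (1 : k) : C₀) = bc k a * (Q₁ * Q₂) + bc k b * (derivative Q₁ * Q₂ + Q₁ * derivative Q₂) := by
    rw [← derivative_mul, hQ]
    show _ = bc k a * bc k P + bc k b * derivative (bc k P)
    simp only [bc, derivative_map, ← Polynomial.map_mul, ← Polynomial.map_add, hab, map_C]
    rfl
  have main : ∀ F₁ F₂ : C₀[X], F₂.Monic → F₂.natDegree ≠ 0 → F₁ * F₂ = PC →
      C (g ⊗ₜ (1 : k) : C₀) ∈ Ideal.span {F₁, F₂} → ¬ IsNilpotent (evalMap χ θ k F₁) := by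
    intro F₁ F₂ hF₂ hd2 hFF hmem hnil
    obtain ⟨M, hM⟩ := hnil
    rw [← map_pow] at hM
    have hdvd : F₂ ∣ F₁ ^ M := (dvd_mul_left F₂ F₁).trans (hFF ▸ hker _ hM)
    have : F₂ ∣ C (g ⊗ₜ (1 : k) : C₀) ^ M := dvd_pow_of_mem_span_pair (T := C₀[X]) hdvd hmem
    rw [← map_pow] at this
    have hne : C ((g ⊗ₜ (1 : k) : C₀) ^ M) ≠ 0 := by rw [Ne, C_eq_zero]; exact pow_ne_zero _ hgC
    have hd := natDegree_le_of_dvd this hne
    rw [natDegree_C] at hd
    omega
  have hmem : C (g ⊗ₜ (1 : k) : C₀) ∈ Ideal.span {Q₁, Q₂} := by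
    rw [Ideal.mem_span_pair, hgmem]
    exact ⟨bc k a * Q₂ + bc k b * derivative Q₂, bc k b * derivative Q₁, by ring⟩
  have hz : evalMap χ θ k Q₁ * evalMap χ θ k Q₂ = 0 := by rw [← map_mul, hQ]; exact hroot
  rcases hN.mem_or_mem (show evalMap χ θ k Q₁ * evalMap χ θ k Q₂ ∈ nilradical _ from hz ▸ Ideal.zero_mem _) with h | h
  · exact main Q₁ Q₂ h₂ hcon.2 hQ hmem h
  · exact main Q₂ Q₁ h₁ hcon.1 ((mul_comm Q₂ Q₁).trans hQ) (by rwa [Set.pair_comm]) h

end GISpreadLib
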