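import Mathlib
import Groth.Agent.GISpreadLib.Core
import Groth.Agent.FlatLib.GenericFree

/-!
# Spreading geometric irreducibility over a domain
-/

set_option autoImplicit false
universe u

open TensorProduct

namespace GISpreadLib

/-- Surjections with nil kernels preserve primality of the nilradical. -/
theorem isPrime_nilradical_iff_of_surjective {S T : Type u} [CommRing S] [CommRing T] (f : S →+* T)
    (hf : Function.Surjective f) (hker : RingHom.ker f ≤ nilradical S) :
    (nilradical S).IsPrime ↔ (nilradical T).IsPrime := by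
  have hc : nilradical S = (nilradical T).comap f := by
    ext x
    refine ⟨fun hx => IsNilpotent.map hx f, fun ⟨n, hn⟩ => ?_⟩
    obtain ⟨m, hm⟩ := hker (show f (x ^ n) = 0 by rw [map_pow]; exact hn)
    exact ⟨n * m, by rwa [pow_mul]⟩
  refine ⟨fun h => ?_, fun h => hc ▸ Ideal.IsPrime.comap f⟩
  have : nilradical T = (nilradical S).map f := by rw [hc, Ideal.map_comap_of_surjective f hf]
  rw [this]
  exact Ideal.map_isPrime_of_surjective hf hker

/-- Injections with generically free cokernel stay injective in the fibres. -/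
theorem injective_baseChange_of_free_quotient {R : Type u} [CommRing R] {R' : Type u} [CommRing R'] [Algebra R R']
    [Module.Flat R R'] {M M' Q : Type u} [AddCommGroup M] [Module R M] [AddCommGroup M'] [Module R M']
    [AddCommGroup Q] [Module R Q] (μ : M →ₗ[R] M') (π : M' →ₗ[R] Q) (hμ : Function.Injective μ)
    (hex : Function.Exact μ π) (hπ : Function.Surjective π) [Module.Free R' (R' ⊗[R] Q)]
    (k : Type u) [CommRing k] [Algebra R k] [Algebra R' k] [IsScalarTower R R' k] :
    Function.Injective (μ.lTensor k) := by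
  let μ' := μ.baseChange R'
  let π' := π.baseChange R'
  have h1 : Function.Injective μ' := Module.Flat.lTensor_preserves_injective_linearMap (M := R') μ hμ
  have h2 : Function.Exact μ' π' := lTensor_exact R' hex hπ
  have h3 : Function.Surjective π' := LinearMap.lTensor_surjective R' hπ
  obtain ⟨s, hs⟩ := π'.exists_rightInverse_of_surjective (LinearMap.range_eq_top_of_surjective π' h3)
  obtain ⟨r, hr⟩ : ∃ r : R' ⊗[R] M' →ₗ[R'] R' ⊗[R] M, r.comp μ' = LinearMap.id := by
    exact ((Function.Exact.split_tfae h2 h1 h3).out 0 1 rfl rfl).mp ⟨s, hs⟩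
  let e := TensorProduct.AlgebraTensorModule.cancelBaseChange R R' R' k M
  let e' := TensorProduct.AlgebraTensorModule.cancelBaseChange R R' R' k M'
  have comm : ∀ z, μ.lTensor k (e z) = e' (μ'.lTensor k z) := by
    intro z
    induction z using TensorProduct.induction_on with
    | zero => simp
    | add a b ha hb => simp only [map_add, ha, hb]
    | tmul c y =>
      induction y using TensorProduct.induction_on with
      | zero => simp
      | add a b ha hb => simp only [TensorProduct.tmul_add, map_add] at ha hb ⊢; rw [ha, hb]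
      | tmul a m => simp [e, e', μ', TensorProduct.smul_tmul']
  have hinj : Function.Injective (μ'.lTensor k) := fun x y h => by
    have := congrArg (r.lTensor k) h
    rwa [← LinearMap.lTensor_comp_apply, ← LinearMap.lTensor_comp_apply, hr, LinearMap.lTensor_id] at this
  intro x y h
  obtain ⟨x, rfl⟩ := e.surjective x
  obtain ⟨y, rfl⟩ := e.surjective y
  rw [comm, comm] at h
  rw [hinj (e'.injective h)]

theorem tmul_one_mem_nonZeroDivisors {R A k : Type u} [CommRing R] [CommRing A] [Algebra R A] [CommRing k]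
    [Algebra R k] (a : A) (h : Function.Injective ((LinearMap.mulLeft R a).lTensor k)) :
    (a ⊗ₜ (1 : k) : A ⊗[R] k) ∈ nonZeroDivisors (A ⊗[R] k) := by
  have key : ∀ z : A ⊗[R] k, (LinearMap.mulLeft R a).lTensor k (TensorProduct.comm R A k z) =
      TensorProduct.comm R A k ((a ⊗ₜ (1 : k)) * z) := by
    intro z
    induction z using TensorProduct.induction_on with
    | zero => simp
    | add x y hx hy => rw [map_add, map_add, hx, hy, mul_add, map_add]
    | tmul b c => simp [Algebra.TensorProduct.tmul_mul_tmul]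
  have hz : ∀ z : A ⊗[R] k, (a ⊗ₜ (1 : k)) * z = 0 → z = 0 := fun z hz => by
    have := key z
    rw [hz, map_zero, ← map_zero ((LinearMap.mulLeft R a).lTensor k)] at this
    exact (TensorProduct.comm R A k).injective ((h this).trans (map_zero _).symm)
  rw [mem_nonZeroDivisors_iff]
  exact ⟨hz, fun z hz' => hz z (by rwa [mul_comm])⟩

variable {R : Type u} [CommRing R] [IsDomain R] (L : Type u) [Field L] [IsAlgClosed L] [Algebra R L]
  [FaithfulSMul R L]

omit [IsAlgClosed L] in
theorem flat_of_faithful : Module.Flat R L := by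
  letI : Algebra (FractionRing R) L := FractionRing.liftAlgebra R L
  haveI : IsScalarTower R (FractionRing R) L := FractionRing.isScalarTower_liftAlgebra R L
  haveI : Module.Flat R (FractionRing R) := IsLocalization.flat _ (nonZeroDivisors R)
  exact Module.Flat.trans R (FractionRing R) L

omit [IsAlgClosed L] in
/-- Elements vanishing over the field are torsion. -/
theorem exists_smul_eq_zero {M : Type u} [AddCommGroup M] [Module R M] (y : M)
    (hy : y ⊗ₜ[R] (1 : L) = 0) : ∃ c : R, c ≠ 0 ∧ c • y = 0 := by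
  letI : Algebra (FractionRing R) L := FractionRing.liftAlgebra R L
  haveI : IsScalarTower R (FractionRing R) L := FractionRing.isScalarTower_liftAlgebra R L
  obtain ⟨s, hs⟩ := LinearMap.exists_leftInverse_of_injective (Algebra.linearMap (FractionRing R) L)
    (LinearMap.ker_eq_bot.mpr (algebraMap (FractionRing R) L).injective)
  have hs1 : s 1 = 1 := by
    have := LinearMap.congr_fun hs 1
    simpa using this
  have := congrArg ((s.restrictScalars R).lTensor M) hy
  rw [LinearMap.lTensor_tmul, map_zero] at this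
  change y ⊗ₜ s 1 = 0 at this
  rw [hs1] at this
  have h2 := congrArg (TensorProduct.comm R M (FractionRing R)) this
  rw [TensorProduct.comm_tmul, map_zero] at h2
  obtain ⟨c, hc⟩ := (IsLocalizedModule.eq_zero_iff (nonZeroDivisors R) (TensorProduct.mk R (FractionRing R) M 1)).mp h2
  exact ⟨c.1, nonZeroDivisors.ne_zero c.2, hc⟩

/-- The case of a domain. -/
theorem exists_forall_isPrime_nilradical_domain (A : Type u) [CommRing A] [IsDomain A] [Algebra R A]
    [Algebra.FiniteType R A] [FaithfulSMul R A] (hL : (nilradical (A ⊗[R] L)).IsPrime) :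
    ∃ h : R, h ≠ 0 ∧ ∀ (k : Type u) [Field k] [Algebra R k], algebraMap R k h ≠ 0 →
      (nilradical (A ⊗[R] k)).IsPrime := by
  obtain ⟨d, φ, P, g, q, hφ, hP, hdeg, hg, ⟨a, b, hab⟩, hadd, hq, hN⟩ := exists_presentation R A
  let B := MvPolynomial (Fin d) R
  letI : Algebra B A := φ.toRingHom.toAlgebra
  haveI : IsScalarTower R B A := IsScalarTower.of_algebraMap_eq fun r => (φ.commutes r).symm
  haveI : Algebra.FiniteType B A := Algebra.FiniteType.of_restrictScalars_finiteType R B A
  obtain ⟨f, hf, hfree⟩ := FlatLib.gfree_of_finite (R := B) A A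
  let g' : B := g * f
  have hg' : g' ≠ 0 := mul_ne_zero hg hf
  let Bg := Localization.Away g'
  haveI hfree' : Module.Free Bg (Bg ⊗[B] A) :=
    FlatLib.free_tensor_of_isUnit Bg (isUnit_of_dvd_unit (map_dvd _ (Dvd.intro_left g rfl))
      (IsLocalization.Away.algebraMap_isUnit g')) hfree
  let N := A ⊗[B] Bg
  haveI : IsLocalization.Away (φ g') N := IsLocalization.Away.tensor (S := A) g' (A := Bg)
  have hφg : φ g' ≠ 0 := (map_ne_zero_iff _ hφ).mpr hg'
  have hle : Submonoid.powers (φ g') ≤ nonZeroDivisors A := powers_le_nonZeroDivisors_of_noZeroDivisors hφg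
  haveI : IsDomain N := IsLocalization.isDomain_of_le_nonZeroDivisors N hle
  haveI : FaithfulSMul A N := (faithfulSMul_iff_algebraMap_injective A N).mpr (IsLocalization.injective N hle)
  haveI : Module.Flat B N := by
    haveI : Module.Flat Bg (Bg ⊗[B] A) := inferInstance
    haveI : Module.Flat B Bg := IsLocalization.flat _ (Submonoid.powers g')
    haveI : Module.Flat B (Bg ⊗[B] A) := Module.Flat.trans B Bg (Bg ⊗[B] A)
    exact Module.Flat.of_linearEquiv (TensorProduct.comm B A Bg)
  have hu : IsUnit (algebraMap A N (φ g')) := IsLocalization.Away.algebraMap_isUnit (φ g')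
  have hug : IsUnit (algebraMap A N (φ g)) := isUnit_of_dvd_unit (map_dvd _ (map_dvd φ (Dvd.intro f rfl))) hu
  obtain ⟨θ, hθ, hinj, hgen⟩ := hN N hug
  let χ : B →ₐ[R] N := (IsScalarTower.toAlgHom R A N).comp φ
  have hχalg : χ.toRingHom.toAlgebra = (inferInstance : Algebra B N) := Algebra.algebra_ext _ _ fun r => by
    show algebraMap A N (φ r) = algebraMap B N r
    exact (IsScalarTower.algebraMap_apply B A N r).symm
  -- over the algebraically closed field
  haveI := flat_of_faithful (R := R) L
  haveI := hL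
  have hgL : ((φ g') ⊗ₜ (1 : L) : A ⊗[R] L) ∈ nonZeroDivisors (A ⊗[R] L) :=
    tmul_one_mem_nonZeroDivisors _ (Module.Flat.lTensor_preserves_injective_linearMap _ (mul_right_injective₀ hφg))
  haveI : Nontrivial (A ⊗[R] L) := by
    by_contra hn
    rw [not_nontrivial_iff_subsingleton] at hn
    exact hL.ne_top (Subsingleton.elim _ _)
  haveI : Nontrivial (N ⊗[R] L) := by
    refine nontrivial_of_ne (1 : N ⊗[R] L) 0 fun h => ?_
    obtain ⟨m, hm⟩ := locMap_eq_zero (R := R) (A := A) (N := N) L (φ g') 1 (by rw [map_one]; exact h)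
    rw [mul_one] at hm
    exact nonZeroDivisors.ne_zero (pow_mem hgL m) hm
  have hNL := isPrime_nilradical_loc (R := R) (A := A) (N := N) L (φ g') hL
  have hirr := irreducible_of_isPrime_nilradical χ θ L P hP hdeg hθ hinj g' hg'
    ⟨Polynomial.C f * a, Polynomial.C f * b, by
      rw [mul_assoc, mul_assoc, ← mul_add, hab, ← Polynomial.C_mul, mul_comm f g]⟩ hNL
  obtain ⟨h₁, hh₁, H₁⟩ := exists_forall_irreducible L P hP hdeg hirr
  -- generic freeness over the base
  haveI : Algebra.FiniteType A N := IsLocalization.finiteType_of_monoid_fg (Submonoid.powers (φ g')) N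
  haveI : Algebra.FiniteType R N := Algebra.FiniteType.trans (S := A) inferInstance inferInstance
  obtain ⟨h₂, hh₂, hfree₂⟩ := FlatLib.gfree_of_finite (R := R) N N
  let Q := A ⧸ Ideal.span {φ g'}
  haveI : Algebra.FiniteType R Q := Algebra.FiniteType.of_surjective (Ideal.Quotient.mkₐ R _) Ideal.Quotient.mk_surjective
  obtain ⟨h₃, hh₃, hfree₃⟩ := FlatLib.gfree_of_finite (R := R) Q Q
  refine ⟨h₁ * (h₂ * h₃), mul_ne_zero hh₁ (mul_ne_zero hh₂ hh₃), fun k _ _ hk => ?_⟩
  rw [map_mul, map_mul, mul_ne_zero_iff, mul_ne_zero_iff] at hk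
  obtain ⟨hk₁, hk₂, hk₃⟩ := hk
  have hirrk := H₁ k hk₁
  -- the localized fibre is nonzero
  haveI : Nontrivial (N ⊗[R] k) := by
    let R' := Localization.Away h₂
    letI : Algebra R' k := (IsLocalization.Away.lift h₂ (isUnit_iff_ne_zero.mpr hk₂)).toAlgebra
    haveI : IsScalarTower R R' k := IsScalarTower.of_algebraMap_eq fun r => (IsLocalization.Away.lift_eq h₂ _ r).symm
    haveI : FaithfulSMul R N := FaithfulSMul.trans R A N
    haveI : Nontrivial (R' ⊗[R] N) := by
      refine nontrivial_of_ne ((1 : R') ⊗ₜ[R] (1 : N)) 0 fun h => ?_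
      obtain ⟨⟨_, m, rfl⟩, hm⟩ := (IsLocalizedModule.eq_zero_iff (Submonoid.powers h₂)
        (TensorProduct.mk R R' N 1)).mp h
      rw [Submonoid.smul_def, ← Algebra.algebraMap_eq_smul_one, map_pow] at hm
      exact pow_ne_zero m ((map_ne_zero_iff _ (FaithfulSMul.algebraMap_injective R N)).mpr hh₂) hm
    haveI : Nontrivial (k ⊗[R'] (R' ⊗[R] N)) := by
      let bs := Module.Free.chooseBasis R' (R' ⊗[R] N)
      haveI : Nonempty (Module.Free.ChooseBasisIndex R' (R' ⊗[R] N)) := bs.index_nonempty
      exact (bs.baseChange k).repr.toEquiv.nontrivial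
    exact ((TensorProduct.AlgebraTensorModule.cancelBaseChange R R' R' k N).toEquiv.trans
      (TensorProduct.comm R k N).toEquiv).nontrivial_congr.mp inferInstance
  have hgk : ((φ g') ⊗ₜ (1 : k) : A ⊗[R] k) ∈ nonZeroDivisors (A ⊗[R] k) := by
    let R' := Localization.Away h₃
    letI : Algebra R' k := (IsLocalization.Away.lift h₃ (isUnit_iff_ne_zero.mpr hk₃)).toAlgebra
    haveI : IsScalarTower R R' k := IsScalarTower.of_algebraMap_eq fun r => (IsLocalization.Away.lift_eq h₃ _ r).symm
    haveI : Module.Flat R R' := IsLocalization.flat _ (Submonoid.powers h₃)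
    haveI : Module.Free R' (R' ⊗[R] Q) := hfree₃
    refine tmul_one_mem_nonZeroDivisors _ (injective_baseChange_of_free_quotient (R' := R') (LinearMap.mulLeft R (φ g'))
      (Ideal.Quotient.mkₐ R (Ideal.span {φ g'})).toLinearMap (mul_right_injective₀ hφg) (fun y => ?_)
      Ideal.Quotient.mk_surjective k)
    show Ideal.Quotient.mk _ y = 0 ↔ _
    rw [Ideal.Quotient.eq_zero_iff_mem, Ideal.mem_span_singleton']
    exact ⟨fun ⟨c, hc⟩ => ⟨c, by rw [← hc]; exact mul_comm _ _⟩, fun ⟨c, hc⟩ => ⟨c, by rw [← hc]; exact mul_comm _ _⟩⟩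
  refine isPrime_nilradical_of_loc (R := R) (A := A) (N := N) k (φ g') hgk ?_
  haveI : @Module.Flat B N _ _ (χ.toRingHom.toAlgebra.toModule) := by rw [hχalg]; infer_instance
  refine isPrime_nilradical_fibre χ θ k P hP hirrk hθ g' hu q hq hadd fun n => ?_
  obtain ⟨⟨x, ⟨_, j, rfl⟩⟩, hx⟩ := IsLocalization.surj (Submonoid.powers (φ g')) n
  obtain ⟨m, Q', hm⟩ := hgen x
  refine ⟨m + j * q, Polynomial.C (f ^ m) * Q', ?_⟩
  have hcg : χ g' = χ f * algebraMap A N (φ g) := by
    show algebraMap A N (φ (g * f)) = algebraMap A N (φ f) * algebraMap A N (φ g)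
    rw [← map_mul, ← map_mul, mul_comm f g]
  rw [Polynomial.eval₂_mul, Polynomial.eval₂_C, map_pow]
  change _ = χ f ^ m * Q'.eval₂ ((algebraMap A N).comp φ.toRingHom) θ
  rw [← hm]
  simp only at hx
  rw [← hx, map_pow, mul_pow, pow_add, pow_mul, hcg]
  show (χ f * algebraMap A N (φ g)) ^ m * ((χ f * algebraMap A N (φ g)) ^ j) ^ q * n ^ q = _
  rw [← hcg]
  show χ g' ^ m * (algebraMap A N (φ g') ^ j) ^ q * n ^ q = _
  rw [hcg, show algebraMap A N (φ g') = χ g' from rfl, hcg]
  ring

/-- Spreading irreducibility of geometric generic fibres, algebraic form. -/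
theorem exists_forall_isPrime_nilradical (A : Type u) [CommRing A] [Algebra R A] [Algebra.FiniteType R A]
    (hL : (nilradical (A ⊗[R] L)).IsPrime) :
    ∃ h : R, h ≠ 0 ∧ ∀ (k : Type u) [Field k] [Algebra R k], algebraMap R k h ≠ 0 →
      (nilradical (A ⊗[R] k)).IsPrime := by
  haveI := hL
  let p : Ideal A := (nilradical (A ⊗[R] L)).comap (Algebra.TensorProduct.includeLeft (R := R) (S := R) (A := A) (B := L))
  haveI : p.IsPrime := Ideal.IsPrime.comap _
  haveI : FaithfulSMul R (A ⧸ p) := (faithfulSMul_iff_algebraMap_injective R _).mpr <| by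
    rw [injective_iff_map_eq_zero]
    intro r hr
    rw [IsScalarTower.algebraMap_apply R A (A ⧸ p), Ideal.Quotient.algebraMap_eq, Ideal.Quotient.eq_zero_iff_mem] at hr
    by_contra hne
    refine hL.ne_top (Ideal.eq_top_of_isUnit_mem _ hr ?_)
    show IsUnit (algebraMap R A r ⊗ₜ[R] (1 : L))
    rw [← Algebra.TensorProduct.algebraMap_apply, Algebra.TensorProduct.algebraMap_apply' r]
    exact (isUnit_iff_ne_zero.mpr ((map_ne_zero_iff _ (FaithfulSMul.algebraMap_injective R L)).mpr hne)).map
      Algebra.TensorProduct.includeRight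
  obtain ⟨f, hf, hfree⟩ := FlatLib.gfree_of_finite (R := R) A A
  let π (k : Type u) [CommRing k] [Algebra R k] : A ⊗[R] k →ₐ[R] (A ⧸ p) ⊗[R] k :=
    Algebra.TensorProduct.map (Ideal.Quotient.mkₐ R p) (AlgHom.id R k)
  have hπs : ∀ (k : Type u) [CommRing k] [Algebra R k], Function.Surjective (π k) := fun k _ _ =>
    TensorProduct.map_surjective Ideal.Quotient.mk_surjective Function.surjective_id
  have hπk : ∀ (k : Type u) [CommRing k] [Algebra R k],
      RingHom.ker (π k).toRingHom = p.map (Algebra.TensorProduct.includeLeft : A →ₐ[R] A ⊗[R] k) := fun k _ _ => by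
    refine (Algebra.TensorProduct.rTensor_ker _ Ideal.Quotient.mk_surjective).trans ?_
    rw [show RingHom.ker (Ideal.Quotient.mkₐ R p) = p from Ideal.Quotient.mkₐ_ker R p]
  have hL' : (nilradical ((A ⧸ p) ⊗[R] L)).IsPrime := by
    refine (isPrime_nilradical_iff_of_surjective (π L).toRingHom (hπs L) ?_).mp hL
    rw [hπk, Ideal.map_le_iff_le_comap]
  obtain ⟨h, hh, H⟩ := exists_forall_isPrime_nilradical_domain L (A ⧸ p) hL'
  refine ⟨h * f, mul_ne_zero hh hf, fun k _ _ hk => ?_⟩
  rw [map_mul, mul_ne_zero_iff] at hk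
  refine (isPrime_nilradical_iff_of_surjective (π k).toRingHom (hπs k) ?_).mpr (H k hk.1)
  rw [hπk, Ideal.map_le_iff_le_comap]
  intro x hx
  obtain ⟨m, hm⟩ : IsNilpotent (x ⊗ₜ[R] (1 : L)) := hx
  rw [Algebra.TensorProduct.tmul_pow, one_pow] at hm
  obtain ⟨c, hc, hcx⟩ := exists_smul_eq_zero L (x ^ m) hm
  refine ⟨m, ?_⟩
  let R' := Localization.Away f
  haveI : IsDomain R' := IsLocalization.isDomain_localization (powers_le_nonZeroDivisors_of_noZeroDivisors hf)
  haveI : Module.Free R' (R' ⊗[R] A) := hfree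
  letI : Algebra R' k := (IsLocalization.Away.lift f (isUnit_iff_ne_zero.mpr hk.2)).toAlgebra
  haveI : IsScalarTower R R' k := IsScalarTower.of_algebraMap_eq fun r => (IsLocalization.Away.lift_eq f _ r).symm
  have h0 : (1 : R') ⊗ₜ[R] (x ^ m) = 0 := by
    have : algebraMap R R' c • ((1 : R') ⊗ₜ[R] (x ^ m)) = 0 := by
      rw [algebraMap_smul, ← TensorProduct.tmul_smul, hcx, TensorProduct.tmul_zero]
    refine (smul_eq_zero.mp this).resolve_left ?_
    exact (map_ne_zero_iff _ (IsLocalization.injective R' (powers_le_nonZeroDivisors_of_noZeroDivisors hf))).mpr hc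
  show (x ⊗ₜ[R] (1 : k)) ^ m = 0
  rw [Algebra.TensorProduct.tmul_pow, one_pow]
  have h2 : ((IsScalarTower.toAlgHom R R' k).toLinearMap.rTensor A) ((1 : R') ⊗ₜ[R] (x ^ m)) = 0 := by rw [h0, map_zero]
  rw [LinearMap.rTensor_tmul] at h2
  have h3 := congrArg (TensorProduct.comm R k A) h2
  simpa using h3

end GISpreadLib
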