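import Mathlib
import Groth.Agent.GISpreadLib.Main

/-!
# Spreading properties of geometric generic fibres over an integral affine base
-/

set_option autoImplicit false
universe u

open CategoryTheory CategoryTheory.Limits AlgebraicGeometry TopologicalSpace TensorProduct Topology

namespace GISpreadLib

variable {R : Type u} [CommRing R] {X : Scheme.{u}} (f : X ⟶ Spec (CommRingCat.of R))
  (K : Type u) [CommRing K] [Algebra R K]

/-- The base change to an algebra. -/
noncomputable abbrev BX : Scheme.{u} := pullback f (Spec.map (CommRingCat.ofHom (algebraMap R K)))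

/-- The projection from the base change. -/
noncomputable abbrev prX : BX f K ⟶ X := pullback.fst _ _

section Chart

variable (A : Type u) [CommRing A] [Algebra R A] (ι : Spec (CommRingCat.of A) ⟶ X)
  (hι : Spec.map (CommRingCat.ofHom (algebraMap R A)) = ι ≫ f)

/-- The chart of the base change over an affine chart. -/
noncomputable def chartX : Spec (CommRingCat.of (A ⊗[R] K)) ⟶ BX f K :=
  (pullbackSpecIso R A K).inv ≫ pullback.map _ _ f _ ι (𝟙 _) (𝟙 _) (by rw [Category.comp_id, hι]) (by simp)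

theorem chartX_fst : chartX f K A ι hι ≫ prX f K =
    Spec.map (CommRingCat.ofHom (Algebra.TensorProduct.includeLeftRingHom (R := R) (A := A) (B := K))) ≫ ι := by
  rw [chartX, Category.assoc, pullback.map, pullback.lift_fst, pullbackSpecIso_inv_fst_assoc]

instance [IsOpenImmersion ι] : IsOpenImmersion (chartX f K A ι hι) := by
  unfold chartX; infer_instance

theorem chartX_comap (w : PrimeSpectrum (A ⊗[R] K)) :
    prX f K ((chartX f K A ι hι).base w) =
      ι.base (PrimeSpectrum.comap (Algebra.TensorProduct.includeLeftRingHom (R := R) (A := A) (B := K)) w) := by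
  rw [← Scheme.Hom.comp_apply, chartX_fst]
  rfl

theorem range_chartX : Set.range (chartX f K A ι hι).base = (prX f K).base ⁻¹' Set.range ι.base := by
  refine Set.Subset.antisymm ?_ fun x hx => ?_
  · rintro _ ⟨w, rfl⟩
    exact ⟨_, (chartX_comap f K A ι hι w).symm⟩
  · have : x ∈ Set.range (pullback.map (Spec.map (CommRingCat.ofHom (algebraMap R A)))
        (Spec.map (CommRingCat.ofHom (algebraMap R K))) f _ ι (𝟙 _) (𝟙 _)
        (by rw [Category.comp_id, hι]) (by simp)).base := by
      rw [Scheme.Pullback.range_map]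
      exact ⟨hx, ⟨_, rfl⟩⟩
    obtain ⟨y, rfl⟩ := this
    obtain ⟨y', rfl⟩ := (pullbackSpecIso R A K).inv.surjective y
    exact ⟨y', rfl⟩

end Chart

theorem exists_chart [LocallyOfFiniteType f] {U : X.Opens} (hU : IsAffineOpen U) :
    ∃ (A : Type u) (_ : CommRing A) (_ : Algebra R A) (_ : Algebra.FiniteType R A)
      (ι : Spec (CommRingCat.of A) ⟶ X) (_ : IsOpenImmersion ι),
      Spec.map (CommRingCat.ofHom (algebraMap R A)) = ι ≫ f ∧ Set.range ι.base = U := by
  obtain ⟨φ, hφ⟩ : ∃ φ : CommRingCat.of R ⟶ Γ(X, U), Spec.map φ = hU.fromSpec ≫ f := Spec.map_surjective _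
  letI := φ.hom.toAlgebra
  haveI : Algebra.FiniteType R Γ(X, U) := RingHom.finiteType_algebraMap.mp
    ((HasRingHomProperty.Spec_iff (P := @LocallyOfFiniteType)).mp
      (hφ ▸ (inferInstance : LocallyOfFiniteType (hU.fromSpec ≫ f))))
  exact ⟨Γ(X, U), inferInstance, inferInstance, inferInstance, hU.fromSpec, inferInstance, hφ, hU.range_fromSpec⟩

theorem exists_finite_affine_cover [QuasiCompact f] :
    ∃ S : Set X.Opens, S.Finite ∧ (∀ U ∈ S, IsAffineOpen U) ∧ ∀ x : X, ∃ U ∈ S, x ∈ U := by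
  haveI : CompactSpace X := QuasiCompact.compactSpace_of_compactSpace f
  obtain ⟨S, hS, hfin, he⟩ := X.isBasis_affineOpens.exists_finite_of_isCompact (U := ⊤) isCompact_univ
  refine ⟨S, hfin, fun U hU => hS hU, fun x => ?_⟩
  have hx : x ∈ sSup S := he ▸ trivial
  exact Opens.mem_sSup.mp hx

variable [IsDomain R] (L : Type u) [Field L] [IsAlgClosed L] [Algebra R L] [FaithfulSMul R L]

omit [IsAlgClosed L] in
/-- Generically every point specializes from the generic fibre: affine form. -/
theorem exists_zeroLocus_le (A : Type u) [CommRing A] [Algebra R A] [Algebra.FiniteType R A] :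
    ∃ h : R, h ≠ 0 ∧ ∀ p : PrimeSpectrum A, algebraMap R A h ∉ p.asIdeal →
      RingHom.ker (Algebra.TensorProduct.includeLeftRingHom : A →+* A ⊗[R] L) ≤ p.asIdeal := by
  obtain ⟨h, hh, hfree⟩ := FlatLib.gfree_of_finite (R := R) A A
  refine ⟨h, hh, fun p hp x hx => ?_⟩
  obtain ⟨c, hc, hcx⟩ := exists_smul_eq_zero L x hx
  let R' := Localization.Away h
  have : IsDomain R' := IsLocalization.isDomain_localization (powers_le_nonZeroDivisors_of_noZeroDivisors hh)
  have : Module.Free R' (R' ⊗[R] A) := hfree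
  have h0 : TensorProduct.mk R R' A 1 x = 0 := by
    have e : algebraMap R R' c • ((1 : R') ⊗ₜ[R] x) = 0 := by
      rw [algebraMap_smul, ← TensorProduct.tmul_smul, hcx, TensorProduct.tmul_zero]
    exact (smul_eq_zero.mp e).resolve_left
      ((map_ne_zero_iff _ (IsLocalization.injective R' (powers_le_nonZeroDivisors_of_noZeroDivisors hh))).mpr hc)
  obtain ⟨⟨_, m, rfl⟩, hm⟩ := (IsLocalizedModule.eq_zero_iff (Submonoid.powers h) (TensorProduct.mk R R' A 1)).mp h0
  rw [Submonoid.smul_def, Algebra.smul_def, map_pow] at hm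
  refine (p.isPrime.mem_or_mem (show algebraMap R A h ^ m * x ∈ p.asIdeal from hm ▸ Ideal.zero_mem _)).resolve_left ?_
  exact fun hmem => hp (p.isPrime.mem_of_pow_mem m hmem)

/-- A family indexed by a finite set of opens gives a single element. -/
theorem exists_ne_zero_forall {ι : Type*} {S : Set ι} (hS : S.Finite) {P : ι → R → Prop}
    (hmono : ∀ i h h', P i h → P i (h * h')) (hP : ∀ i ∈ S, ∃ h, h ≠ 0 ∧ P i h) :
    ∃ h : R, h ≠ 0 ∧ ∀ i ∈ S, P i h := by
  induction S, hS using Set.Finite.induction_on with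
  | empty => exact ⟨1, one_ne_zero, by simp⟩
  | @insert a s ha hs ih =>
    obtain ⟨h, hh, H⟩ := ih fun i hi => hP i (Set.mem_insert_of_mem _ hi)
    obtain ⟨h', hh', H'⟩ := hP a (Set.mem_insert _ _)
    refine ⟨h' * h, mul_ne_zero hh' hh, fun i hi => ?_⟩
    rcases hi with rfl | hi
    · exact hmono _ _ _ H'
    · rw [mul_comm]; exact hmono _ _ _ (H i hi)

/-- The point of the base under a point of a base change to a field avoids elements nonzero in the field. -/
theorem apply_prX_mem_basicOpen (F : Type u) [Field F] [Algebra R F] {h : R} (hh : algebraMap R F h ≠ 0)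
    (x : BX f F) : f.base ((prX f F).base x) ∈ PrimeSpectrum.basicOpen h := by
  rw [← Scheme.Hom.comp_apply, prX, pullback.condition, Scheme.Hom.comp_apply]
  intro hmem
  change h ∈ Ideal.comap (algebraMap R F) _ at hmem
  rw [Ideal.mem_comap] at hmem
  exact (((pullback.snd f _).base x).isPrime.ne_top) (Ideal.eq_top_of_isUnit_mem _ hmem (isUnit_iff_ne_zero.mpr hh))

omit [IsAlgClosed L] in
/-- Generically every point specializes from the generic fibre. -/
theorem exists_preimage_subset_closure [LocallyOfFiniteType f] [QuasiCompact f] :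
    ∃ h : R, h ≠ 0 ∧ f.base ⁻¹' (PrimeSpectrum.basicOpen h : Set (PrimeSpectrum R)) ⊆
      closure (Set.range (prX f L).base) := by
  obtain ⟨S, hS, hSa, hcov⟩ := exists_finite_affine_cover f
  obtain ⟨h, hh, H⟩ := exists_ne_zero_forall hS (P := fun (U : X.Opens) h =>
      ∀ x ∈ U, f.base x ∈ PrimeSpectrum.basicOpen h → x ∈ closure (Set.range (prX f L).base))
    (fun U h h' hU x hx hm => hU x hx (PrimeSpectrum.basicOpen_mul_le_left h h' hm)) (fun U hU => by
      obtain ⟨A, _, _, _, ι, _, hι, hr⟩ := exists_chart f (hSa U hU)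
      obtain ⟨h, hh, H⟩ := exists_zeroLocus_le (R := R) L A
      refine ⟨h, hh, fun x hx hm => ?_⟩
      obtain ⟨p, rfl⟩ : x ∈ Set.range ι.base := hr ▸ hx
      rw [← Scheme.Hom.comp_apply, ← hι] at hm
      have hp := H p hm
      have hcl : p ∈ closure (Set.range (PrimeSpectrum.comap
          (Algebra.TensorProduct.includeLeftRingHom : A →+* A ⊗[R] L))) := by
        rw [PrimeSpectrum.closure_range_comap]
        exact hp
      refine closure_mono ?_ (image_closure_subset_closure_image ι.continuous ⟨p, hcl, rfl⟩)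
      rintro _ ⟨_, ⟨w, rfl⟩, rfl⟩
      exact ⟨_, chartX_comap f L A ι hι w⟩)
  exact ⟨h, hh, fun x hx => by obtain ⟨U, hU, hxU⟩ := hcov x; exact H U hU x hxU hx⟩

omit [IsAlgClosed L] in
/-- An empty geometric generic fibre has empty fibres nearby. -/
theorem exists_forall_isEmpty [LocallyOfFiniteType f] [QuasiCompact f] [IsEmpty (BX f L)] :
    ∃ h : R, h ≠ 0 ∧ ∀ (F : Type u) [Field F] [Algebra R F], algebraMap R F h ≠ 0 → IsEmpty (BX f F) := by
  obtain ⟨h, hh, H⟩ := exists_preimage_subset_closure f L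
  refine ⟨h, hh, fun F _ _ hF => ⟨fun x => ?_⟩⟩
  have := H (apply_prX_mem_basicOpen f F hF x)
  rw [Set.range_eq_empty, closure_empty] at this
  exact this

omit [IsAlgClosed L] in
/-- A nonzero geometric generic fibre of an algebra gives nonzero fibres nearby. -/
theorem exists_forall_nontrivial (A : Type u) [CommRing A] [Algebra R A] [Algebra.FiniteType R A]
    [Nontrivial (A ⊗[R] L)] :
    ∃ h : R, h ≠ 0 ∧ ∀ (F : Type u) [Field F] [Algebra R F], algebraMap R F h ≠ 0 → Nontrivial (A ⊗[R] F) := by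
  obtain ⟨h, hh, hfree⟩ := FlatLib.gfree_of_finite (R := R) A A
  let R' := Localization.Away h
  have : Module.Free R' (R' ⊗[R] A) := hfree
  have key : ∀ (F : Type u) [Field F] [Algebra R F], algebraMap R F h ≠ 0 →
      (Nontrivial (A ⊗[R] F) ↔ Nonempty (Module.Free.ChooseBasisIndex R' (R' ⊗[R] A))) := by
    intro F _ _ hF
    letI : Algebra R' F := (IsLocalization.Away.lift h (isUnit_iff_ne_zero.mpr hF)).toAlgebra
    have : IsScalarTower R R' F := IsScalarTower.of_algebraMap_eq fun r => (IsLocalization.Away.lift_eq h _ r).symm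
    let e := ((TensorProduct.comm R A F).toEquiv.trans
      (TensorProduct.AlgebraTensorModule.cancelBaseChange R R' R' F A).toEquiv.symm).trans
      ((Module.Free.chooseBasis R' (R' ⊗[R] A)).baseChange F).repr.toEquiv
    rw [e.nontrivial_congr]
    constructor
    · intro h'
      by_contra hne
      rw [not_nonempty_iff] at hne
      exact false_of_nontrivial_of_subsingleton (Module.Free.ChooseBasisIndex R' (R' ⊗[R] A) →₀ F)
    · intro h'; infer_instance
  have hL : algebraMap R L h ≠ 0 := (map_ne_zero_iff _ (FaithfulSMul.algebraMap_injective R L)).mpr hh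
  exact ⟨h, hh, fun F _ _ hF => (key F hF).mpr ((key L hL).mp inferInstance)⟩

omit [IsAlgClosed L] in
/-- A nonempty geometric generic fibre has nonempty fibres nearby. -/
theorem exists_forall_nonempty [LocallyOfFiniteType f] [Nonempty (BX f L)] :
    ∃ h : R, h ≠ 0 ∧ ∀ (F : Type u) [Field F] [Algebra R F], algebraMap R F h ≠ 0 → Nonempty (BX f F) := by
  obtain ⟨x⟩ := ‹Nonempty (BX f L)›
  obtain ⟨_, ⟨U, hU, rfl⟩, hxU, -⟩ := X.isBasis_affineOpens.exists_subset_of_mem_open
    (Set.mem_univ ((prX f L).base x)) isOpen_univ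
  obtain ⟨A, _, _, _, ι, _, hι, hr⟩ := exists_chart f hU
  obtain ⟨w, -⟩ : x ∈ Set.range (chartX f L A ι hι).base := by
    rw [range_chartX, hr]; exact hxU
  have : Nontrivial (A ⊗[R] L) := PrimeSpectrum.nonempty_iff_nontrivial.mp ⟨w⟩
  obtain ⟨h, hh, H⟩ := exists_forall_nontrivial (R := R) L A
  refine ⟨h, hh, fun F _ _ hF => ?_⟩
  have := H F hF
  exact ⟨(chartX f F A ι hι).base (Classical.arbitrary (PrimeSpectrum (A ⊗[R] F)))⟩

/-- An open cover by preirreducible pairwise meeting sets gives a preirreducible space. -/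
theorem preirreducibleSpace_of_cover {α : Type*} [TopologicalSpace α] {ι : Type*} (U : ι → Set α)
    (ho : ∀ i, IsOpen (U i)) (hc : ∀ x, ∃ i, x ∈ U i) (hp : ∀ i, IsPreirreducible (U i))
    (hm : ∀ i j, (U i).Nonempty → (U j).Nonempty → (U i ∩ U j).Nonempty) : PreirreducibleSpace α := by
  refine ⟨fun u v hu hv ⟨a, _, hau⟩ ⟨b, _, hbv⟩ => ?_⟩
  obtain ⟨i, hai⟩ := hc a
  obtain ⟨j, hbj⟩ := hc b
  obtain ⟨c, hci, hcu, hcj⟩ := hp i u (U j) hu (ho j) ⟨a, hai, hau⟩ (hm i j ⟨a, hai⟩ ⟨b, hbj⟩)
  obtain ⟨e, -, heu, hev⟩ := hp j u v hu hv ⟨c, hcj, hcu⟩ ⟨b, hbj, hbv⟩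
  exact ⟨e, trivial, heu, hev⟩

/-- An irreducible geometric generic fibre has irreducible fibres nearby. -/
theorem exists_forall_irreducibleSpace [LocallyOfFiniteType f] [QuasiCompact f] [IrreducibleSpace (BX f L)] :
    ∃ h : R, h ≠ 0 ∧ ∀ (F : Type u) [Field F] [Algebra R F], algebraMap R F h ≠ 0 →
      IrreducibleSpace (BX f F) := by
  obtain ⟨S, hS, hSa, hcov⟩ := exists_finite_affine_cover f
  obtain ⟨h₀, hh₀, H₀⟩ := exists_forall_nonempty f L
  let Good (U : X.Opens) (h : R) : Prop := ∀ (F : Type u) [Field F] [Algebra R F], algebraMap R F h ≠ 0 →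
    IsPreirreducible ((prX f F).base ⁻¹' (U : Set X))
  obtain ⟨h₁, hh₁, H₁⟩ := exists_ne_zero_forall hS (P := Good)
    (fun U h h' hU F _ _ hF => hU F (by rw [map_mul] at hF; exact left_ne_zero_of_mul hF)) (fun U hU => by
      obtain ⟨A, _, _, _, ι, _, hι, hr⟩ := exists_chart f (hSa U hU)
      rcases isEmpty_or_nonempty (PrimeSpectrum (A ⊗[R] L)) with hA | hA
      · obtain ⟨h, hh, H⟩ := exists_zeroLocus_le (R := R) L A
        refine ⟨h, hh, fun F _ _ hF => ?_⟩
        have hE : ∀ w : PrimeSpectrum (A ⊗[R] F), False := fun w => by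
          let p := PrimeSpectrum.comap (Algebra.TensorProduct.includeLeftRingHom : A →+* A ⊗[R] F) w
          have : Subsingleton (A ⊗[R] L) := not_nontrivial_iff_subsingleton.mp fun hn =>
            hA.false (Classical.arbitrary (PrimeSpectrum (A ⊗[R] L)))
          refine p.isPrime.ne_top (eq_top_iff.mpr fun a _ => H p (fun hm => ?_) (Subsingleton.elim _ _))
          refine w.isPrime.ne_top (Ideal.eq_top_of_isUnit_mem _ (x := algebraMap R A h ⊗ₜ[R] (1 : F)) hm ?_)
          rw [show algebraMap R A h ⊗ₜ[R] (1 : F) = (1 : A) ⊗ₜ[R] algebraMap R F h by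
            rw [Algebra.algebraMap_eq_smul_one, Algebra.algebraMap_eq_smul_one, TensorProduct.smul_tmul]]
          exact (isUnit_iff_ne_zero.mpr hF).map (Algebra.TensorProduct.includeRight (R := R) (A := A))
        rw [← hr, ← range_chartX f F A ι hι]
        have : IsEmpty (Spec (CommRingCat.of (A ⊗[R] F))) := ⟨hE⟩
        rw [Set.range_eq_empty]
        exact isPreirreducible_empty
      · have hirr : IrreducibleSpace (PrimeSpectrum (A ⊗[R] L)) := by
          have : Nonempty (Spec (CommRingCat.of (A ⊗[R] L))) := hA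
          exact (chartX f L A ι hι).isOpenEmbedding.irreducibleSpace
        obtain ⟨h, hh, H⟩ := exists_forall_isPrime_nilradical L A
          (PrimeSpectrum.irreducibleSpace_iff_isPrime_nilradical.mp hirr)
        refine ⟨h, hh, fun F _ _ hF => ?_⟩
        have := PrimeSpectrum.irreducibleSpace_iff_isPrime_nilradical.mpr (H F hF)
        rw [← hr, ← range_chartX f F A ι hι, ← Set.image_univ]
        exact ((this.isIrreducible_univ).image _ (chartX f F A ι hι).continuous.continuousOn).isPreirreducible)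
  let Good₂ (UV : X.Opens × X.Opens) (h : R) : Prop := ∀ (F : Type u) [Field F] [Algebra R F], algebraMap R F h ≠ 0 →
    ((prX f F).base ⁻¹' (UV.1 : Set X)).Nonempty → ((prX f F).base ⁻¹' (UV.2 : Set X)).Nonempty →
      ((prX f F).base ⁻¹' (UV.1 : Set X) ∩ (prX f F).base ⁻¹' (UV.2 : Set X)).Nonempty
  obtain ⟨h₂, hh₂, H₂⟩ := exists_ne_zero_forall (hS.prod hS) (P := Good₂)
    (fun U h h' hU F _ _ hF => hU F (by rw [map_mul] at hF; exact left_ne_zero_of_mul hF)) (fun UV hUV => by
      have empty_spread : ∀ U ∈ S, (prX f L).base ⁻¹' ((U : X.Opens) : Set X) = ∅ → ∃ h : R, h ≠ 0 ∧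
          ∀ (F : Type u) [Field F] [Algebra R F], algebraMap R F h ≠ 0 → (prX f F).base ⁻¹' (U : Set X) = ∅ := by
        intro U hU hUe
        obtain ⟨h, hh, H⟩ := exists_preimage_subset_closure f L
        refine ⟨h, hh, fun F _ _ hF => Set.eq_empty_of_forall_notMem fun x hx => ?_⟩
        obtain ⟨y, hyU, w, rfl⟩ := mem_closure_iff.mp (H (apply_prX_mem_basicOpen f F hF x)) U U.isOpen hx
        exact (Set.eq_empty_iff_forall_notMem.mp hUe) w hyU
      rcases Set.eq_empty_or_nonempty ((prX f L).base ⁻¹' (UV.1 : Set X)) with he₁ | hne₁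
      · obtain ⟨h, hh, H⟩ := empty_spread UV.1 hUV.1 he₁
        exact ⟨h, hh, fun F _ _ hF hn _ => absurd (H F hF) hn.ne_empty⟩
      rcases Set.eq_empty_or_nonempty ((prX f L).base ⁻¹' (UV.2 : Set X)) with he₂ | hne₂
      · obtain ⟨h, hh, H⟩ := empty_spread UV.2 hUV.2 he₂
        exact ⟨h, hh, fun F _ _ hF _ hn => absurd (H F hF) hn.ne_empty⟩
      obtain ⟨x, hx₁, hx₂⟩ : ((prX f L).base ⁻¹' (UV.1 : Set X) ∩ (prX f L).base ⁻¹' (UV.2 : Set X)).Nonempty := by
        obtain ⟨x, -, hx⟩ := (IrreducibleSpace.isIrreducible_univ (BX f L)).2 _ _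
          (UV.1.isOpen.preimage (prX f L).continuous) (UV.2.isOpen.preimage (prX f L).continuous)
          (by simpa using hne₁) (by simpa using hne₂)
        exact ⟨x, hx⟩
      obtain ⟨_, ⟨W, hW, rfl⟩, hxW, hWs⟩ := X.isBasis_affineOpens.exists_subset_of_mem_open
        (show (prX f L).base x ∈ (UV.1 : Set X) ∩ UV.2 from ⟨hx₁, hx₂⟩) (UV.1.isOpen.inter UV.2.isOpen)
      obtain ⟨A, _, _, _, ι, _, hι, hr⟩ := exists_chart f hW
      obtain ⟨w, -⟩ : x ∈ Set.range (chartX f L A ι hι).base := by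
        rw [range_chartX, hr]; exact hxW
      have : Nontrivial (A ⊗[R] L) := PrimeSpectrum.nonempty_iff_nontrivial.mp ⟨w⟩
      obtain ⟨h, hh, H⟩ := exists_forall_nontrivial (R := R) L A
      refine ⟨h, hh, fun F _ _ hF _ _ => ?_⟩
      have := H F hF
      let v : PrimeSpectrum (A ⊗[R] F) := Classical.arbitrary _
      refine ⟨(chartX f F A ι hι).base v, hWs ?_⟩
      rw [chartX_comap, ← hr]
      exact ⟨_, rfl⟩)
  refine ⟨h₀ * (h₁ * h₂), mul_ne_zero hh₀ (mul_ne_zero hh₁ hh₂), fun F _ _ hF => ?_⟩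
  rw [map_mul, map_mul, mul_ne_zero_iff, mul_ne_zero_iff] at hF
  have := H₀ F hF.1
  have hpre : PreirreducibleSpace (BX f F) := preirreducibleSpace_of_cover
    (fun U : S => (prX f F).base ⁻¹' ((U : X.Opens) : Set X))
    (fun U => U.1.isOpen.preimage (prX f F).continuous)
    (fun x => by obtain ⟨U, hU, hx⟩ := hcov ((prX f F).base x); exact ⟨⟨U, hU⟩, hx⟩)
    (fun U => H₁ U U.2 F hF.2.1) (fun U V hUn hVn => H₂ (U.1, V.1) ⟨U.2, V.2⟩ F hF.2.2 hUn hVn)
  exact { hpre with toNonempty := this }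

end GISpreadLib
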