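import Mathlib
import Groth.Agent.GISpreadLib.Scheme

/-!
# Closed subsets of geometric generic fibres are defined over finite extensions
-/

set_option autoImplicit false
universe u

open CategoryTheory CategoryTheory.Limits AlgebraicGeometry TopologicalSpace TensorProduct Topology

namespace GISpreadLib

variable {R : Type u} [CommRing R] {X : Scheme.{u}} (f : X ⟶ Spec (CommRingCat.of R))
  (R' K : Type u) [CommRing R'] [Algebra R R'] [CommRing K] [Algebra R K] [Algebra R' K] [IsScalarTower R R' K]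

theorem specMap_tower : Spec.map (CommRingCat.ofHom (algebraMap R' K)) ≫ Spec.map (CommRingCat.ofHom (algebraMap R R')) =
    Spec.map (CommRingCat.ofHom (algebraMap R K)) := by
  rw [← Spec.map_comp, ← CommRingCat.ofHom_comp, ← IsScalarTower.algebraMap_eq]

/-- The structure map of a base change. -/
noncomputable abbrev sndX : BX f R' ⟶ Spec (CommRingCat.of R') := pullback.snd _ _

/-- Change of level. -/
noncomputable def chgX : BX f K ⟶ BX f R' :=
  pullback.lift (prX f K) (pullback.snd _ _ ≫ Spec.map (CommRingCat.ofHom (algebraMap R' K)))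
    (by rw [Category.assoc, specMap_tower]; exact pullback.condition)

theorem chgX_fst : chgX f R' K ≫ prX f R' = prX f K := pullback.lift_fst _ _ _

theorem chgX_snd : chgX f R' K ≫ sndX f R' = pullback.snd _ _ ≫ Spec.map (CommRingCat.ofHom (algebraMap R' K)) :=
  pullback.lift_snd _ _ _

/-- Transitivity of base change. -/
noncomputable def BXIso : BX (sndX f R') K ≅ BX f K :=
  pullbackLeftPullbackSndIso f _ _ ≪≫ pullback.congrHom rfl (specMap_tower R' K)

theorem BXIso_chgX : (BXIso f R' K).hom ≫ chgX f R' K = prX (sndX f R') K := by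
  apply pullback.hom_ext
  · rw [Category.assoc, show chgX f R' K ≫ pullback.fst f _ = prX f K from chgX_fst f R' K]
    simp only [BXIso, Iso.trans_hom, pullback.congrHom_hom, Category.assoc, pullback.map, prX]
    erw [pullback.lift_fst]
    simp
  · rw [Category.assoc, show chgX f R' K ≫ pullback.snd f _ = _ from chgX_snd f R' K]
    simp only [BXIso, Iso.trans_hom, pullback.congrHom_hom, Category.assoc, pullback.map, prX]
    erw [pullback.lift_snd_assoc]
    simp [pullback.condition]

theorem chartX_chgX (A : Type u) [CommRing A] [Algebra R A] (ι : Spec (CommRingCat.of A) ⟶ X)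
    (hι : Spec.map (CommRingCat.ofHom (algebraMap R A)) = ι ≫ f) :
    chartX f K A ι hι ≫ chgX f R' K = Spec.map (CommRingCat.ofHom
      (Algebra.TensorProduct.map (AlgHom.id R A) (IsScalarTower.toAlgHom R R' K)).toRingHom) ≫ chartX f R' A ι hι := by
  have hsnd : ∀ (M : Type u) [CommRing M] [Algebra R M], chartX f M A ι hι ≫ pullback.snd _ _ =
      Spec.map (CommRingCat.ofHom (Algebra.TensorProduct.includeRight (R := R) (A := A) (B := M)).toRingHom) := by
    intro M _ _
    rw [chartX, Category.assoc, pullback.map, pullback.lift_snd, Category.comp_id, pullbackSpecIso_inv_snd]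
    rfl
  apply pullback.hom_ext
  · rw [Category.assoc, Category.assoc, chgX_fst, chartX_fst, chartX_fst, ← Category.assoc, ← Spec.map_comp]
    congr 2
    ext a
    simp
  · rw [Category.assoc, Category.assoc, show chgX f R' K ≫ pullback.snd f _ = _ from chgX_snd f R' K, hsnd,
      reassoc_of% (hsnd K), ← Spec.map_comp, ← Spec.map_comp]
    congr 1

variable {f} (L : Type u) [Field L] [Algebra R L]

/-- The elements `a ⊗ c` with `c` in a subset generate ideals defined over any level containing it. -/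
theorem exists_finset_of_tensor [IsDomain R] [Algebra.IsAlgebraic R L] [FaithfulSMul R L] {A : Type u} [CommRing A] [Algebra R A]
    (x : A ⊗[R] L) : ∃ (T : Finset L) (u : L), u ≠ 0 ∧ (∀ c ∈ T, IsIntegral R c) ∧
      ∀ (R' : Subalgebra R L), (T : Set L) ⊆ R' → ((1 : A) ⊗ₜ[R] u) * x ∈
        Set.range (Algebra.TensorProduct.map (AlgHom.id R A) R'.val) := by
  classical
  obtain ⟨S, hS⟩ := TensorProduct.exists_finset x
  obtain ⟨r, hr, hint⟩ := Algebra.IsAlgebraic.exists_integral_multiples R (S.image Prod.snd)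
  refine ⟨S.image fun p => r • p.2, algebraMap R L r, (map_ne_zero_iff _ (FaithfulSMul.algebraMap_injective R L)).mpr hr,
    fun c hc => ?_, fun R' hR' => ?_⟩
  · obtain ⟨p, hp, rfl⟩ := Finset.mem_image.mp hc
    exact hint _ (Finset.mem_image_of_mem _ hp)
  · refine ⟨∑ p ∈ S.attach, p.1.1 ⊗ₜ[R] (⟨r • p.1.2, hR' (Finset.mem_image_of_mem _ p.2)⟩ : R'), ?_⟩
    rw [map_sum, hS, Finset.mul_sum]
    rw [← Finset.sum_attach S (fun p => (1 : A) ⊗ₜ[R] algebraMap R L r * (p.1 ⊗ₜ[R] p.2))]
    refine Finset.sum_congr rfl fun p _ => ?_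
    rw [Algebra.TensorProduct.map_tmul, Algebra.TensorProduct.tmul_mul_tmul, one_mul, ← Algebra.smul_def]
    rfl

variable (f)

/-- Closed subsets of the geometric generic fibre come from finite levels. -/
theorem exists_level [IsDomain R] [Algebra.IsAlgebraic R L] [FaithfulSMul R L] [LocallyOfFiniteType f] [QuasiCompact f]
    {ι : Type u} [Finite ι] (W : ι → Set (BX f L)) (hW : ∀ j, IsClosed (W j)) :
    ∃ R' : Subalgebra R L, Module.Finite R R' ∧ ∀ j,
      (chgX f R' L).base ⁻¹' closure ((chgX f R' L).base '' W j) = W j := by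
  classical
  obtain ⟨S, hS, hSa, hcov⟩ := exists_finite_affine_cover f
  have key : ∀ p : S × ι, ∃ T : Finset L, (∀ c ∈ T, IsIntegral R c) ∧ ∀ R' : Subalgebra R L, (T : Set L) ⊆ R' →
      (chgX f R' L).base ⁻¹' closure ((chgX f R' L).base '' W p.2) ∩ (prX f L).base ⁻¹' (p.1.1 : Set X) ⊆ W p.2 := by
    rintro ⟨⟨U, hU⟩, j⟩
    obtain ⟨A, _, _, _, ι, _, hι, hr⟩ := exists_chart f (hSa U hU)
    let c := chartX f L A ι hι
    obtain ⟨J, hJ⟩ := (PrimeSpectrum.isClosed_iff_zeroLocus_ideal (c.base ⁻¹' W j)).mp ((hW j).preimage c.continuous)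
    haveI : Algebra.FiniteType L (L ⊗[R] A) := inferInstance
    haveI : IsNoetherianRing (A ⊗[R] L) := by
      have : IsNoetherianRing (L ⊗[R] A) := Algebra.FiniteType.isNoetherianRing L _
      exact isNoetherianRing_of_ringEquiv (L ⊗[R] A) (Algebra.TensorProduct.comm R L A).toRingEquiv
    obtain ⟨G, hG⟩ := (isNoetherianRing_iff_ideal_fg _).mp inferInstance J
    choose T u hu hTint hT using fun x : A ⊗[R] L => exists_finset_of_tensor (L := L) x
    refine ⟨G.biUnion T, fun t ht => ?_, fun R' hR' => ?_⟩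
    · obtain ⟨x, hx, htx⟩ := Finset.mem_biUnion.mp ht
      exact hTint x t htx
    let φ := Algebra.TensorProduct.map (AlgHom.id R A) R'.val
    let J' : Ideal (A ⊗[R] R') := J.comap φ.toRingHom
    rintro x ⟨hx, hxU⟩
    obtain ⟨w, rfl⟩ : x ∈ Set.range c.base := by rw [range_chartX, hr]; exact hxU
    let c' := chartX f R' A ι hι
    have hcc : ∀ v, (chgX f R' L).base (c.base v) = c'.base (PrimeSpectrum.comap φ.toRingHom v) := fun v => by
      rw [← Scheme.Hom.comp_apply, chartX_chgX]
      rfl
    have hsub : (chgX f R' L).base '' W j ∩ Set.range c'.base ⊆ c'.base '' PrimeSpectrum.zeroLocus J' := by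
      rintro _ ⟨⟨y, hy, rfl⟩, v', hv'⟩
      have hyU : (prX f L).base y ∈ Set.range ι.base := by
        rw [← chgX_fst f R' L, Scheme.Hom.comp_apply, ← hv', chartX_comap]
        exact ⟨_, rfl⟩
      obtain ⟨v, rfl⟩ : y ∈ Set.range c.base := by rw [range_chartX]; exact hyU
      refine ⟨PrimeSpectrum.comap φ.toRingHom v, ?_, (hcc v).symm⟩
      show (J' : Set (A ⊗[R] R')) ⊆ (PrimeSpectrum.comap φ.toRingHom v).asIdeal
      exact Ideal.comap_mono (f := φ.toRingHom) ((Set.ext_iff.mp hJ v).mp hy)
    have hmem : (chgX f R' L).base (c.base w) ∈ c'.base '' PrimeSpectrum.zeroLocus J' := by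
      have ho := c'.isOpenEmbedding.isOpen_range
      have hcl : closure ((chgX f R' L).base '' W j ∩ Set.range c'.base) ∩ Set.range c'.base ⊆
          c'.base '' PrimeSpectrum.zeroLocus J' := by
        rintro _ ⟨h1, v, rfl⟩
        have h2 : v ∈ closure (PrimeSpectrum.zeroLocus (J' : Set (A ⊗[R] R'))) := by
          exact (Set.ext_iff.mp (c'.isEmbedding.isInducing.closure_eq_preimage_closure_image _) v).mpr (closure_mono hsub h1)
        exact ⟨v, (Set.ext_iff.mp (PrimeSpectrum.isClosed_zeroLocus (J' : Set (A ⊗[R] R'))).closure_eq v).mp h2, rfl⟩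
      refine hcl ⟨?_, _, (hcc w).symm⟩
      rw [mem_closure_iff]
      intro o hoo hxo
      obtain ⟨z, ⟨hzo, hzr⟩, hzW⟩ := mem_closure_iff.mp hx (o ∩ Set.range c'.base) (hoo.inter ho) ⟨hxo, _, (hcc w).symm⟩
      exact ⟨z, hzo, hzW, hzr⟩
    obtain ⟨v', hv', he⟩ := hmem
    rw [hcc] at he
    obtain rfl := c'.isEmbedding.injective he
    refine (Set.ext_iff.mp hJ w).mpr ?_
    rw [PrimeSpectrum.mem_zeroLocus, SetLike.coe_subset_coe, ← hG, Ideal.span_le]
    intro g hg
    obtain ⟨g', hg'⟩ := hT g R' (fun t ht => hR' (Finset.mem_biUnion.mpr ⟨g, hg, ht⟩))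
    have hmemJ : g' ∈ J' := by
      show φ g' ∈ J
      rw [hg', ← hG]
      exact Ideal.mul_mem_left _ _ (Ideal.subset_span hg)
    have := hv' hmemJ
    change φ g' ∈ w.asIdeal at this
    rw [hg'] at this
    exact (Ideal.unit_mul_mem_iff_mem _ ((isUnit_iff_ne_zero.mpr (hu g)).map
      (Algebra.TensorProduct.includeRight (R := R) (A := A)))).mp this
  choose T hT hTR using key
  haveI : Fintype ι := Fintype.ofFinite ι
  haveI : Fintype S := hS.fintype
  let T' : Finset L := Finset.univ.biUnion T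
  refine ⟨Algebra.adjoin R (T' : Set L), ?_, fun j => ?_⟩
  · exact Algebra.finite_adjoin_of_finite_of_isIntegral T'.finite_toSet fun c hc => by
      obtain ⟨p, -, hp⟩ := Finset.mem_biUnion.mp hc
      exact hT p c hp
  · refine Set.Subset.antisymm (fun x hx => ?_) (fun x hx => subset_closure ⟨x, hx, rfl⟩)
    obtain ⟨U, hU, hxU⟩ := hcov ((prX f L).base x)
    exact hTR (⟨U, hU⟩, j) _ (fun c hc => Algebra.subset_adjoin (Finset.mem_biUnion.mpr ⟨_, Finset.mem_univ _, hc⟩))
      ⟨hx, hxU⟩

end GISpreadLib
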