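import Mathlib

/-!
# Components of a space covered by finitely many closed irreducible sets
-/

set_option autoImplicit false

open Topology

namespace GISpreadLib

variable {α : Type*} [TopologicalSpace α] {ι : Type*} [Finite ι] {P : ι → Set α}

theorem irreducibleComponents_eq_range (hc : ∀ i, IsClosed (P i)) (hi : ∀ i, IsIrreducible (P i))
    (hcov : ∀ x, ∃ i, x ∈ P i) (hirr : ∀ i j, P i ⊆ P j → i = j) :
    irreducibleComponents α = Set.range P := by
  have key : ∀ Z, IsIrreducible Z → ∃ i, Z ⊆ P i := fun Z hZ => by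
    have := isIrreducible_iff_sUnion_isClosed.mp hZ (Set.finite_range P).toFinset (by simpa using hc)
      (fun x _ => by obtain ⟨i, hx⟩ := hcov x; exact Set.mem_sUnion.mpr ⟨P i, by simp, hx⟩)
    obtain ⟨z, hz, hzs⟩ := this
    obtain ⟨i, rfl⟩ := (Set.finite_range P).mem_toFinset.mp hz
    exact ⟨i, hzs⟩
  ext Z
  constructor
  · intro hZ
    obtain ⟨i, h⟩ := key Z hZ.1
    exact ⟨i, Set.Subset.antisymm (hZ.2 (hi i) h) h⟩
  · rintro ⟨i, rfl⟩
    refine ⟨hi i, fun Z hZ hle => ?_⟩
    obtain ⟨j, hj⟩ := key Z hZ
    obtain rfl := hirr i j (hle.trans hj)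
    exact hj

/-- The relation generated by meeting. -/
def Linked (P : ι → Set α) (i j : ι) : Prop := Relation.EqvGen (fun a b => (P a ∩ P b).Nonempty) i j

/-- The union of a class. -/
def classSet (P : ι → Set α) (i : ι) : Set α := ⋃ j ∈ {j | Linked P i j}, P j

omit [Finite ι] in
theorem subset_classSet (i : ι) : P i ⊆ classSet P i :=
  Set.subset_biUnion_of_mem (u := fun j => P j) (show Linked P i i from Relation.EqvGen.refl i)

theorem isClosed_classSet (hc : ∀ i, IsClosed (P i)) (i : ι) : IsClosed (classSet P i) :=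
  (Set.toFinite _).isClosed_biUnion fun j _ => hc j

omit [TopologicalSpace α] [Finite ι] in
theorem linked_of_mem {i j : ι} {x : α} (hi : x ∈ classSet P i) (hj : x ∈ P j) : Linked P i j := by
  obtain ⟨l, hl, hxl⟩ := Set.mem_iUnion₂.mp hi
  exact Relation.EqvGen.trans _ _ _ hl (Relation.EqvGen.rel _ _ ⟨x, hxl, hj⟩)

theorem isOpen_classSet (hc : ∀ i, IsClosed (P i)) (hcov : ∀ x, ∃ i, x ∈ P i) (i : ι) : IsOpen (classSet P i) := by
  have : (classSet P i)ᶜ = ⋃ j ∈ {j | ¬ Linked P i j}, P j := by
    ext x
    constructor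
    · intro hx
      obtain ⟨j, hj⟩ := hcov x
      exact Set.mem_iUnion₂.mpr ⟨j, fun h => hx (Set.mem_iUnion₂.mpr ⟨j, h, hj⟩), hj⟩
    · intro hx hx'
      obtain ⟨j, hj, hxj⟩ := Set.mem_iUnion₂.mp hx
      exact hj (linked_of_mem hx' hxj)
  rw [← isClosed_compl_iff, this]
  exact (Set.toFinite _).isClosed_biUnion fun j _ => hc j

omit [Finite ι] in
theorem linked_connected (hi : ∀ i, IsPreconnected (P i)) (hne : ∀ i, (P i).Nonempty) {i j : ι} (h : Linked P i j) :
    ∀ x ∈ P i, ∀ y ∈ P j, y ∈ connectedComponent x := by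
  induction h with
  | rel a b hab =>
    intro x hx y hy
    obtain ⟨z, hza, hzb⟩ := hab
    rw [connectedComponent_eq ((hi a).subset_connectedComponent hx hza)]
    exact (hi b).subset_connectedComponent hzb hy
  | refl a => exact fun x hx y hy => (hi a).subset_connectedComponent hx hy
  | symm a b _ ih =>
    intro x hx y hy
    rw [← connectedComponent_eq (ih y hy x hx)]
    exact mem_connectedComponent
  | trans a b c _ _ ih₁ ih₂ =>
    intro x hx y hy
    obtain ⟨z, hz⟩ := hne b
    rw [connectedComponent_eq (ih₁ x hx z hz)]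
    exact ih₂ z hz y hy

theorem connectedComponent_eq_classSet (hc : ∀ i, IsClosed (P i)) (hi : ∀ i, IsIrreducible (P i))
    (hcov : ∀ x, ∃ i, x ∈ P i) {i : ι} {x : α} (hx : x ∈ P i) : connectedComponent x = classSet P i := by
  refine Set.Subset.antisymm ?_ fun y hy => ?_
  · exact isPreconnected_connectedComponent.subset_isClopen ⟨isClosed_classSet hc i, isOpen_classSet hc hcov i⟩
      ⟨x, mem_connectedComponent, subset_classSet i hx⟩
  · obtain ⟨j, hj, hyj⟩ := Set.mem_iUnion₂.mp hy
    exact linked_connected (fun l => (hi l).isConnected.isPreconnected) (fun l => (hi l).nonempty) hj x hx y hyj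

/-- The connected components correspond to the classes. -/
noncomputable def connectedComponentsEquiv (hc : ∀ i, IsClosed (P i)) (hi : ∀ i, IsIrreducible (P i))
    (hcov : ∀ x, ∃ i, x ∈ P i) :
    Quot (fun a b => (P a ∩ P b).Nonempty) ≃ ConnectedComponents α := by
  refine Equiv.ofBijective (Quot.lift (fun i => ConnectedComponents.mk (hi i).nonempty.some) fun a b hab => ?_) ⟨?_, ?_⟩
  · rw [ConnectedComponents.coe_eq_coe]
    exact connectedComponent_eq (linked_connected (fun l => (hi l).isConnected.isPreconnected)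
      (fun l => (hi l).nonempty) (Relation.EqvGen.rel a b hab) _ (hi a).nonempty.some_mem _ (hi b).nonempty.some_mem)
  · intro p q
    induction p using Quot.ind with
    | mk a =>
      induction q using Quot.ind with
      | mk b =>
        intro h
        change ConnectedComponents.mk (hi a).nonempty.some = ConnectedComponents.mk (hi b).nonempty.some at h
        rw [ConnectedComponents.coe_eq_coe, connectedComponent_eq_classSet hc hi hcov (hi a).nonempty.some_mem] at h
        refine Quot.eqvGen_sound ?_
        refine linked_of_mem (x := (hi b).nonempty.some) ?_ (hi b).nonempty.some_mem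
        rw [h]
        exact mem_connectedComponent
  · intro c
    obtain ⟨x, rfl⟩ := ConnectedComponents.surjective_coe c
    obtain ⟨i, hx⟩ := hcov x
    refine ⟨Quot.mk _ i, ?_⟩
    show ConnectedComponents.mk (hi i).nonempty.some = ConnectedComponents.mk x
    rw [ConnectedComponents.coe_eq_coe]
    exact (connectedComponent_eq ((hi i).isConnected.isPreconnected.subset_connectedComponent hx (hi i).nonempty.some_mem)).symm

end GISpreadLib
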