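import Mathlib
import Groth.Agent.GISpreadLib.Levels
import Groth.Agent.GISpreadLib.Topology

/-!
# Spreading the components of the geometric generic fibre
-/

set_option autoImplicit false
universe u

open CategoryTheory CategoryTheory.Limits AlgebraicGeometry TopologicalSpace TensorProduct Topology

namespace GISpreadLib

section Sub

variable {S : Type u} [CommRing S] {Y Y' : Scheme.{u}} (g : Y ⟶ Spec (CommRingCat.of S)) (i : Y' ⟶ Y)
  (F : Type u) [CommRing F] [Algebra S F]

/-- The base change of a subscheme inside the base change. -/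
noncomputable def subX : BX (i ≫ g) F ⟶ BX g F :=
  (pullbackRightPullbackFstIso g _ i).inv ≫ pullback.snd i (prX g F)

theorem isEmbedding_subX [IsImmersion i] : IsEmbedding (subX g i F).base :=
  (pullback.snd i (prX g F)).isEmbedding.comp (pullbackRightPullbackFstIso g _ i).inv.homeomorph.isEmbedding

theorem range_subX : Set.range (subX g i F).base = (prX g F).base ⁻¹' Set.range i.base := by
  rw [← Scheme.Pullback.range_snd, subX, Scheme.Hom.comp_base, TopCat.coe_comp, Set.range_comp,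
    Set.range_eq_univ.mpr (pullbackRightPullbackFstIso g (Spec.map (CommRingCat.ofHom (algebraMap S F))) i).inv.surjective, Set.image_univ]

end Sub

theorem irreducibleSpace_of_isEmbedding {α β : Type*} [TopologicalSpace α] [TopologicalSpace β] {e : α → β}
    (he : IsEmbedding e) (h : IsIrreducible (Set.range e)) : IrreducibleSpace α := by
  have hne : Nonempty α := by obtain ⟨_, a, rfl⟩ := h.nonempty; exact ⟨a⟩
  refine { toNonempty := hne, isPreirreducible_univ := ?_ }
  intro u v hu hv hu' hv'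
  obtain ⟨U, hU, rfl⟩ := he.isInducing.isOpen_iff.mp hu
  obtain ⟨V, hV, rfl⟩ := he.isInducing.isOpen_iff.mp hv
  obtain ⟨a, -, ha⟩ := hu'
  obtain ⟨b, -, hb⟩ := hv'
  obtain ⟨_, ⟨c, rfl⟩, hc⟩ := h.2 U V hU hV ⟨_, ⟨a, rfl⟩, ha⟩ ⟨_, ⟨b, rfl⟩, hb⟩
  exact ⟨c, trivial, hc⟩

variable {S : Type u} [CommRing S] [IsDomain S] {Y : Scheme.{u}} (g : Y ⟶ Spec (CommRingCat.of S))
  [LocallyOfFiniteType g] (L : Type u) [Field L] [IsAlgClosed L] [Algebra S L] [FaithfulSMul S L]

omit [IsAlgClosed L] in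
/-- Locally closed subsets meeting the geometric generic fibre meet the fibres nearby. -/
theorem exists_forall_preimage_nonempty {Y' : Scheme.{u}} (i : Y' ⟶ Y) [IsImmersion i]
    (hT : ((prX g L).base ⁻¹' Set.range i.base).Nonempty) :
    ∃ h : S, h ≠ 0 ∧ ∀ (F : Type u) [Field F] [Algebra S F], algebraMap S F h ≠ 0 →
      ((prX g F).base ⁻¹' Set.range i.base).Nonempty := by
  haveI : Nonempty (BX (i ≫ g) L) := by
    rw [← range_subX] at hT
    obtain ⟨_, x, -⟩ := hT
    exact ⟨x⟩
  obtain ⟨h, hh, H⟩ := exists_forall_nonempty (i ≫ g) L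
  refine ⟨h, hh, fun F _ _ hF => ?_⟩
  obtain ⟨x⟩ := H F hF
  rw [← range_subX]
  exact ⟨_, x, rfl⟩

variable [QuasiCompact g]

omit [IsAlgClosed L] in
/-- Closed subsets missing the geometric generic fibre miss the fibres nearby. -/
theorem exists_forall_preimage_empty {T : Set Y} (hT : IsClosed T) (h0 : (prX g L).base ⁻¹' T = ∅) :
    ∃ h : S, h ≠ 0 ∧ ∀ (F : Type u) [Field F] [Algebra S F], algebraMap S F h ≠ 0 → (prX g F).base ⁻¹' T = ∅ := by
  let J := Scheme.IdealSheafData.vanishingIdeal (⟨T, hT⟩ : Closeds Y)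
  have hr : Set.range J.subschemeι.base = T := by
    rw [J.range_subschemeι, Scheme.IdealSheafData.coe_support_vanishingIdeal]; rfl
  haveI : IsEmpty (BX (J.subschemeι ≫ g) L) := ⟨fun x => by
    have : (subX g J.subschemeι L).base x ∈ (prX g L).base ⁻¹' T := by
      rw [← hr, ← range_subX]; exact ⟨x, rfl⟩
    rw [h0] at this
    exact this⟩
  obtain ⟨h, hh, H⟩ := exists_forall_isEmpty (J.subschemeι ≫ g) L
  refine ⟨h, hh, fun F _ _ hF => ?_⟩
  have := H F hF
  rw [← hr, ← range_subX, Set.range_eq_empty]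

/-- Closed subsets with irreducible geometric generic trace have irreducible traces nearby. -/
theorem exists_forall_preimage_irreducible {T : Set Y} (hT : IsClosed T)
    (h0 : IsIrreducible ((prX g L).base ⁻¹' T)) :
    ∃ h : S, h ≠ 0 ∧ ∀ (F : Type u) [Field F] [Algebra S F], algebraMap S F h ≠ 0 →
      IsIrreducible ((prX g F).base ⁻¹' T) := by
  let J := Scheme.IdealSheafData.vanishingIdeal (⟨T, hT⟩ : Closeds Y)
  have hr : Set.range J.subschemeι.base = T := by
    rw [J.range_subschemeι, Scheme.IdealSheafData.coe_support_vanishingIdeal]; rfl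
  haveI : IrreducibleSpace (BX (J.subschemeι ≫ g) L) :=
    irreducibleSpace_of_isEmbedding (isEmbedding_subX g J.subschemeι L) (by rw [range_subX, hr]; exact h0)
  obtain ⟨h, hh, H⟩ := exists_forall_irreducibleSpace (J.subschemeι ≫ g) L
  refine ⟨h, hh, fun F _ _ hF => ?_⟩
  have := H F hF
  rw [← hr, ← range_subX, ← Set.image_univ]
  exact (IrreducibleSpace.isIrreducible_univ _).image _ (subX g J.subschemeι F).continuous.continuousOn

/-- Spreading a finite irredundant family of closed subsets which are irreducible in the geometric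
generic fibre and cover it. -/
theorem exists_forall_family {ι : Type u} [Finite ι] (Z : ι → Set Y) (hZ : ∀ a, IsClosed (Z a))
    (hirr : ∀ a, IsIrreducible ((prX g L).base ⁻¹' Z a)) (hcov : ∀ x, ∃ a, (prX g L).base x ∈ Z a)
    (hred : ∀ a b, (prX g L).base ⁻¹' Z a ⊆ (prX g L).base ⁻¹' Z b → a = b) :
    ∃ h : S, h ≠ 0 ∧ g.base ⁻¹' (PrimeSpectrum.basicOpen h : Set (PrimeSpectrum S)) ⊆ ⋃ a, Z a ∧
      ∀ (F : Type u) [Field F] [Algebra S F], algebraMap S F h ≠ 0 →
        (∀ a, IsIrreducible ((prX g F).base ⁻¹' Z a)) ∧ (∀ x, ∃ a, (prX g F).base x ∈ Z a) ∧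
        (∀ a b, (prX g F).base ⁻¹' Z a ⊆ (prX g F).base ⁻¹' Z b → a = b) ∧
        ∀ a b, ((prX g F).base ⁻¹' Z a ∩ (prX g F).base ⁻¹' Z b).Nonempty ↔
          ((prX g L).base ⁻¹' Z a ∩ (prX g L).base ⁻¹' Z b).Nonempty := by
  let Good (a : ι × ι) (h : S) : Prop := ∀ (F : Type u) [Field F] [Algebra S F], algebraMap S F h ≠ 0 →
    IsIrreducible ((prX g F).base ⁻¹' Z a.1) ∧
    ((prX g F).base ⁻¹' Z a.1 ⊆ (prX g F).base ⁻¹' Z a.2 → a.1 = a.2) ∧
    (((prX g F).base ⁻¹' Z a.1 ∩ (prX g F).base ⁻¹' Z a.2).Nonempty ↔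
      ((prX g L).base ⁻¹' Z a.1 ∩ (prX g L).base ⁻¹' Z a.2).Nonempty)
  obtain ⟨h₁, hh₁, H₁⟩ := exists_ne_zero_forall (Set.finite_univ (α := ι × ι)) (P := Good)
    (fun a h h' hU F _ _ hF => hU F (by rw [map_mul] at hF; exact left_ne_zero_of_mul hF)) (fun ⟨a, b⟩ _ => by
      obtain ⟨h, hh, H⟩ := exists_forall_preimage_irreducible g L (hZ a) (hirr a)
      obtain ⟨h', hh', H'⟩ : ∃ h : S, h ≠ 0 ∧ ∀ (F : Type u) [Field F] [Algebra S F], algebraMap S F h ≠ 0 →
          ((prX g F).base ⁻¹' Z a ⊆ (prX g F).base ⁻¹' Z b → a = b) := by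
        by_cases hab : a = b
        · exact ⟨1, one_ne_zero, fun F _ _ _ _ => hab⟩
        let J := Scheme.IdealSheafData.vanishingIdeal (⟨Z a, hZ a⟩ : Closeds Y)
        have hr : Set.range J.subschemeι.base = Z a := by
          rw [J.range_subschemeι, Scheme.IdealSheafData.coe_support_vanishingIdeal]; rfl
        let V : J.subscheme.Opens := ⟨J.subschemeι.base ⁻¹' (Z b)ᶜ, (hZ b).isOpen_compl.preimage J.subschemeι.continuous⟩
        have hrV : Set.range (V.ι ≫ J.subschemeι).base = Z a \ Z b := by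
          rw [Scheme.Hom.comp_base, TopCat.coe_comp, Set.range_comp, Scheme.Opens.range_ι]
          show J.subschemeι.base '' (J.subschemeι.base ⁻¹' (Z b)ᶜ) = _
          rw [Set.image_preimage_eq_inter_range, hr, Set.inter_comm, Set.diff_eq]
        obtain ⟨h, hh, H⟩ := exists_forall_preimage_nonempty g L (V.ι ≫ J.subschemeι) (by
          rw [hrV, Set.preimage_diff, Set.diff_nonempty]
          exact fun hsub => hab (hred a b hsub))
        refine ⟨h, hh, fun F _ _ hF hsub => ?_⟩
        obtain ⟨x, hx⟩ := H F hF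
        rw [hrV] at hx
        exact absurd (hsub hx.1) hx.2
      obtain ⟨h'', hh'', H''⟩ : ∃ h : S, h ≠ 0 ∧ ∀ (F : Type u) [Field F] [Algebra S F], algebraMap S F h ≠ 0 →
          (((prX g F).base ⁻¹' Z a ∩ (prX g F).base ⁻¹' Z b).Nonempty ↔
            ((prX g L).base ⁻¹' Z a ∩ (prX g L).base ⁻¹' Z b).Nonempty) := by
        rcases Set.eq_empty_or_nonempty ((prX g L).base ⁻¹' (Z a ∩ Z b)) with he | hne
        · obtain ⟨h, hh, H⟩ := exists_forall_preimage_empty g L ((hZ a).inter (hZ b)) he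
          refine ⟨h, hh, fun F _ _ hF => ?_⟩
          rw [← Set.preimage_inter, ← Set.preimage_inter, H F hF, he]
          simp
        · let J := Scheme.IdealSheafData.vanishingIdeal (⟨Z a ∩ Z b, (hZ a).inter (hZ b)⟩ : Closeds Y)
          have hr : Set.range J.subschemeι.base = Z a ∩ Z b := by
            rw [J.range_subschemeι, Scheme.IdealSheafData.coe_support_vanishingIdeal]; rfl
          obtain ⟨h, hh, H⟩ := exists_forall_preimage_nonempty g L J.subschemeι (hr.symm ▸ hne)
          refine ⟨h, hh, fun F _ _ hF => ?_⟩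
          rw [← Set.preimage_inter, ← Set.preimage_inter]
          exact iff_of_true (hr ▸ H F hF) hne
      refine ⟨h * (h' * h''), mul_ne_zero hh (mul_ne_zero hh' hh''), fun F _ _ hF => ?_⟩
      rw [map_mul, map_mul, mul_ne_zero_iff, mul_ne_zero_iff] at hF
      exact ⟨H F hF.1, H' F hF.2.1, H'' F hF.2.2⟩)
  obtain ⟨h₂, hh₂, H₂⟩ := exists_preimage_subset_closure g L
  have hcov' : g.base ⁻¹' (PrimeSpectrum.basicOpen h₂ : Set (PrimeSpectrum S)) ⊆ ⋃ a, Z a := by
    refine H₂.trans (closure_minimal ?_ (isClosed_iUnion_of_finite hZ))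
    rintro _ ⟨x, rfl⟩
    obtain ⟨a, ha⟩ := hcov x
    exact Set.mem_iUnion.mpr ⟨a, ha⟩
  refine ⟨h₁ * h₂, mul_ne_zero hh₁ hh₂, fun x hx => hcov' (PrimeSpectrum.basicOpen_mul_le_right h₁ h₂ hx), fun F _ _ hF => ?_⟩
  rw [map_mul, mul_ne_zero_iff] at hF
  refine ⟨fun a => (H₁ (a, a) trivial F hF.1).1, fun x => ?_, fun a b => (H₁ (a, b) trivial F hF.1).2.1,
    fun a b => (H₁ (a, b) trivial F hF.1).2.2⟩
  exact Set.mem_iUnion.mp (hcov' (apply_prX_mem_basicOpen g F hF.2 x))

end GISpreadLib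

namespace GISpreadLib

variable {R : Type u} [CommRing R] [IsDomain R] {X : Scheme.{u}} (f : X ⟶ Spec (CommRingCat.of R))
  [LocallyOfFiniteType f] [QuasiCompact f]
  (L : Type u) [Field L] [IsAlgClosed L] [Algebra R L] [FaithfulSMul R L] [Algebra.IsAlgebraic R L]

omit [IsDomain R] [IsAlgClosed L] [FaithfulSMul R L] [Algebra.IsAlgebraic R L] in
theorem finite_components : (irreducibleComponents ↥(BX f L)).Finite := by
  haveI : IsLocallyNoetherian (BX f L) :=
    LocallyOfFiniteType.isLocallyNoetherian (pullback.snd f (Spec.map (CommRingCat.ofHom (algebraMap R L))))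
  haveI : CompactSpace (BX f L) :=
    QuasiCompact.compactSpace_of_compactSpace (pullback.snd f (Spec.map (CommRingCat.ofHom (algebraMap R L))))
  haveI : IsNoetherian (BX f L) := {}
  exact TopologicalSpace.NoetherianSpace.finite_irreducibleComponents

/-- Over a finite extension, the components of the geometric generic fibre spread out. -/
theorem exists_spreading :
    ∃ (R' : Subalgebra R L) (h : R') (Z : irreducibleComponents ↥(BX f L) → Set ↥(BX f R')),
      Module.Finite R R' ∧ h ≠ 0 ∧ (∀ W, IsClosed (Z W)) ∧ (∀ W, (chgX f R' L).base ⁻¹' Z W = W.1) ∧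
      (sndX f R').base ⁻¹' (PrimeSpectrum.basicOpen h : Set (PrimeSpectrum R')) ⊆ ⋃ W, Z W ∧
      ∀ (F : Type u) [Field F] [Algebra R F] [Algebra R' F] [IsScalarTower R R' F], algebraMap R' F h ≠ 0 →
        (∀ W, IsIrreducible ((chgX f R' F).base ⁻¹' Z W)) ∧ (∀ x, ∃ W, (chgX f R' F).base x ∈ Z W) ∧
        (∀ W W', (chgX f R' F).base ⁻¹' Z W ⊆ (chgX f R' F).base ⁻¹' Z W' → W = W') ∧
        ∀ W W', ((chgX f R' F).base ⁻¹' Z W ∩ (chgX f R' F).base ⁻¹' Z W').Nonempty ↔ (W.1 ∩ W'.1).Nonempty := by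
  haveI := (finite_components f L).to_subtype
  obtain ⟨R', hfin, hR'⟩ := exists_level f L (fun W : irreducibleComponents ↥(BX f L) => W.1)
    (fun W => isClosed_of_mem_irreducibleComponents W.1 W.2)
  let Z : irreducibleComponents ↥(BX f L) → Set ↥(BX f R') := fun W => closure ((chgX f R' L).base '' W.1)
  haveI : FaithfulSMul R' L := (faithfulSMul_iff_algebraMap_injective _ _).mpr Subtype.val_injective
  have conv : ∀ (F : Type u) [CommRing F] [Algebra R F] [Algebra R' F] [IsScalarTower R R' F] (T : Set ↥(BX f R')),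
      (prX (sndX f R') F).base ⁻¹' T = (BXIso f R' F).hom.homeomorph ⁻¹' ((chgX f R' F).base ⁻¹' T) := by
    intro F _ _ _ _ T
    rw [← BXIso_chgX]; rfl
  have hL : ∀ W, (prX (sndX f R') L).base ⁻¹' Z W = (BXIso f R' L).hom.homeomorph ⁻¹' W.1 := fun W => by
    rw [conv, hR' W]
  obtain ⟨h, hh, hsub, H⟩ := exists_forall_family (sndX f R') L Z (fun W => isClosed_closure)
    (fun W => by rw [hL W]; exact W.2.1.preimage (BXIso f R' L).hom.homeomorph.isOpenEmbedding (by
      obtain ⟨x, hx⟩ := W.2.1.nonempty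
      exact ⟨x, hx, (BXIso f R' L).hom.homeomorph.surjective x⟩))
    (fun x => by
      obtain ⟨W, hW, hxW⟩ : ∃ W ∈ irreducibleComponents ↥(BX f L), (BXIso f R' L).hom.base x ∈ W :=
        ⟨_, irreducibleComponent_mem_irreducibleComponents _, mem_irreducibleComponent⟩
      refine ⟨⟨W, hW⟩, subset_closure ⟨_, hxW, ?_⟩⟩
      rw [← Scheme.Hom.comp_apply, BXIso_chgX])
    (fun W W' hs => by
      rw [hL, hL, (BXIso f R' L).hom.homeomorph.surjective.preimage_subset_preimage_iff] at hs
      exact Subtype.ext (Set.Subset.antisymm hs (W.2.2 W'.2.1 hs)))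
  refine ⟨R', h, Z, hfin, hh, fun W => isClosed_closure, hR', hsub, fun F _ _ _ _ hF => ?_⟩
  obtain ⟨h1, h2, h3, h4⟩ := H F hF
  let e := (BXIso f R' F).hom.homeomorph
  refine ⟨fun W => ?_, fun x => ?_, fun W W' hs => h3 W W' ?_, fun W W' => ?_⟩
  · have := (h1 W).image e e.continuous.continuousOn
    rwa [conv, e.image_preimage] at this
  · obtain ⟨W, hW⟩ := h2 ((BXIso f R' F).inv.base x)
    refine ⟨W, ?_⟩
    rwa [← Scheme.Hom.comp_apply, ← BXIso_chgX, Iso.inv_hom_id_assoc] at hW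
  · rw [conv, conv]; exact Set.preimage_mono hs
  · have := h4 W W'
    rw [conv, conv, hL, hL] at this
    simp only [← Set.preimage_inter] at this ⊢
    rwa [e.surjective.nonempty_preimage, (BXIso f R' L).hom.homeomorph.surjective.nonempty_preimage] at this

end GISpreadLib
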