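import Mathlib
import Groth.Prelude.Def_MoreMor
import Groth.Agent.SweepSix.GeomConn

/-!
# Independence of the algebraically closed field for counting components of geometric fibres
-/

set_option autoImplicit false
universe u

open CategoryTheory CategoryTheory.Limits AlgebraicGeometry Topology

namespace GISpreadLib

/-- Two spaces have the same numbers of irreducible and of connected components. -/
def SameComp (A B : Type u) [TopologicalSpace A] [TopologicalSpace B] : Prop :=
  (irreducibleComponents A).encard = (irreducibleComponents B).encard ∧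
    ENat.card (ConnectedComponents A) = ENat.card (ConnectedComponents B)

variable {A B C : Scheme.{u}}

theorem SameComp.symm (h : SameComp A B) : SameComp B A := ⟨h.1.symm, h.2.symm⟩

theorem SameComp.trans (h : SameComp A B) (h' : SameComp B C) : SameComp A C :=
  ⟨h.1.trans h'.1, h.2.trans h'.2⟩

theorem isConnected_preimage_of_gi (m : A ⟶ B) [GeometricallyIrreducible m] (ho : IsOpenMap m)
    {Z : Set B} (hZ : _root_.IsConnected Z) : _root_.IsConnected (m ⁻¹' Z) := by
  have hfib : ∀ x, _root_.IsConnected (m ⁻¹' {x}) := fun x =>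
    (m.isIrreducible_preimage ho isIrreducible_singleton).isConnected
  let π := Z.restrictPreimage m
  have hs : Function.Surjective π := Z.restrictPreimage_surjective m.surjective
  have hq := ((ho.restrictPreimage Z).isQuotientMap m.continuous.restrictPreimage hs).isCoinducing
  haveI : ConnectedSpace Z := Subtype.connectedSpace hZ
  have h : _root_.IsConnected (π ⁻¹' Set.univ) :=
    Topology.IsCoinducing.isConnected_preimage_of_isClosed (fun z => by
      have e : Subtype.val '' (π ⁻¹' {z}) = m ⁻¹' {(z : B)} := by
        ext a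
        constructor
        · rintro ⟨b, hb, rfl⟩; exact congrArg Subtype.val hb
        · intro ha
          exact ⟨⟨a, show m a ∈ Z from (Set.mem_preimage.mp ha : m a ∈ ({(z : B)} : Set B)).symm ▸ z.2⟩,
            Subtype.ext ha, rfl⟩
      refine ⟨?_, IsInducing.subtypeVal.isPreconnected_image.mp (e ▸ (hfib z).isPreconnected)⟩
      obtain ⟨a, ha⟩ := hs z
      exact ⟨a, ha⟩) hq isClosed_univ isConnected_univ
  rw [Set.preimage_univ] at h
  have h2 := h.image Subtype.val continuous_subtype_val.continuousOn
  rw [Set.image_univ, Subtype.range_coe_subtype] at h2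
  exact h2

/-- Open geometrically irreducible morphisms preserve both counts. -/
theorem sameComp_of_gi (m : A ⟶ B) [GeometricallyIrreducible m] (ho : IsOpenMap m) : SameComp A B := by
  refine ⟨Set.encard_congr (m.irreducibleComponentsEquiv ho), ?_⟩
  refine ENat.card_congr (Equiv.ofBijective m.continuous.connectedComponentsMap ⟨fun p q h => ?_, fun c => ?_⟩)
  · obtain ⟨a, rfl⟩ := ConnectedComponents.surjective_coe p
    obtain ⟨b, rfl⟩ := ConnectedComponents.surjective_coe q
    have h' : ConnectedComponents.mk (m a) = ConnectedComponents.mk (m b) := h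
    rw [ConnectedComponents.coe_eq_coe'] at h'
    rw [ConnectedComponents.coe_eq_coe']
    exact (isConnected_preimage_of_gi m ho isConnected_connectedComponent).isPreconnected.subset_connectedComponent
      (mem_connectedComponent : m b ∈ connectedComponent (m b)) h'
  · obtain ⟨y, rfl⟩ := ConnectedComponents.surjective_coe c
    obtain ⟨x, rfl⟩ := m.surjective y
    exact ⟨ConnectedComponents.mk x, rfl⟩

theorem sameComp_of_iso (e : A ≅ B) : SameComp A B := by
  have : GeometricallyIrreducible e.hom := ⟨geometrically_iff_of_isClosedUnderIsomorphisms.mpr fun F _ y =>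
    (pullback.snd e.hom y).homeomorph.irreducibleSpace_iff.mpr inferInstance⟩
  exact sameComp_of_gi e.hom e.hom.isOpenMap

variable {k : Type u} [Field k]

theorem gi_specMap_of_isPurelyInseparable (K : Type u) [Field K] [Algebra k K] [IsPurelyInseparable k K] :
    GeometricallyIrreducible (Spec.map (CommRingCat.ofHom (algebraMap k K))) := by
  refine ⟨geometrically_iff_of_commRing_of_isClosedUnderIsomorphisms.mpr fun F _ _ => ?_⟩
  refine (Scheme.homeoOfIso ((pullbackSymmetry _ _) ≪≫ pullbackSpecIso k F K)).irreducibleSpace_iff.mpr ?_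
  have h := PrimeSpectrum.isHomeomorph_comap_of_isPurelyInseparable k K F
  exact (h.homeomorph _).irreducibleSpace_iff.mpr inferInstance

/-- Geometrically irreducible field extensions preserve both counts. -/
theorem sameComp_bc {K : Type u} [Field K] [Algebra k K]
    [GeometricallyIrreducible (Spec.map (CommRingCat.ofHom (algebraMap k K)))] {S : Scheme.{u}} {X : Scheme.{u}}
    (f : X ⟶ S) (p : Spec (CommRingCat.of k) ⟶ S) :
    SameComp ↥(pullback f (Spec.map (CommRingCat.ofHom (algebraMap k K)) ≫ p)) ↥(pullback f p) := by
  refine (sameComp_of_iso (pullbackLeftPullbackSndIso f p _).symm).trans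
    (sameComp_of_gi (pullback.fst (pullback.snd f p) (Spec.map (CommRingCat.ofHom (algebraMap k K)))) ?_)
  exact (pullback.fst (pullback.snd f p) (Spec.map (CommRingCat.ofHom (algebraMap k K)))).isOpenMap

/-- Any two algebraically closed fields over the same field give the same counts. -/
theorem sameComp_algClosed {K K' : Type u} [Field K] [Field K'] [Algebra k K] [Algebra k K'] [IsAlgClosed K]
    [IsAlgClosed K'] {S : Scheme.{u}} {X : Scheme.{u}} (f : X ⟶ S) (p : Spec (CommRingCat.of k) ⟶ S) :
    SameComp ↥(pullback f (Spec.map (CommRingCat.ofHom (algebraMap k K)) ≫ p))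
      ↥(pullback f (Spec.map (CommRingCat.ofHom (algebraMap k K')) ≫ p)) := by
  obtain ⟨E, _, a, b, hab⟩ := SweepSix.GeomConn.exists_compositum (k := k) K K'
  let := a.toAlgebra
  have h1 : SameComp ↥(pullback f (Spec.map (CommRingCat.ofHom a) ≫ Spec.map (CommRingCat.ofHom (algebraMap k K)) ≫ p))
      ↥(pullback f (Spec.map (CommRingCat.ofHom (algebraMap k K)) ≫ p)) :=
    haveI := SweepSix.GeomConn.gi_specMap (k := K) E
    sameComp_bc (K := E) f _
  let := b.toAlgebra
  have h2 : SameComp ↥(pullback f (Spec.map (CommRingCat.ofHom b) ≫ Spec.map (CommRingCat.ofHom (algebraMap k K')) ≫ p))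
      ↥(pullback f (Spec.map (CommRingCat.ofHom (algebraMap k K')) ≫ p)) :=
    haveI := SweepSix.GeomConn.gi_specMap (k := K') E
    sameComp_bc (K := E) f _
  refine h1.symm.trans ((sameComp_of_iso (pullback.congrHom rfl ?_)).trans h2)
  rw [← Category.assoc, ← Category.assoc, ← Spec.map_comp, ← Spec.map_comp, ← CommRingCat.ofHom_comp,
    ← CommRingCat.ofHom_comp, hab]

/-- Separable and algebraic closures give the same counts. -/
theorem sameComp_separableClosure {S : Scheme.{u}} {X : Scheme.{u}} (f : X ⟶ S) (p : Spec (CommRingCat.of k) ⟶ S) :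
    SameComp ↥(pullback f (Spec.map (CommRingCat.ofHom (algebraMap k (AlgebraicClosure k))) ≫ p))
      ↥(pullback f (Spec.map (CommRingCat.ofHom (algebraMap k (SeparableClosure k))) ≫ p)) := by
  haveI := gi_specMap_of_isPurelyInseparable (k := SeparableClosure k) (AlgebraicClosure k)
  refine (sameComp_of_iso (pullback.congrHom rfl ?_)).trans
    (sameComp_bc (K := AlgebraicClosure k) f (Spec.map (CommRingCat.ofHom (algebraMap k (SeparableClosure k))) ≫ p))
  rw [← Category.assoc, ← Spec.map_comp, ← CommRingCat.ofHom_comp, ← IsScalarTower.algebraMap_eq]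

variable {X Y : Scheme.{u}}

theorem sameComp_residue {F : Type u} [Field F] (f : X ⟶ Y) (q : Spec (CommRingCat.of F) ⟶ Y) {K : Type u} [Field K]
    [IsAlgClosed K] (φ : F →+* K) {G : Scheme.{u}}
    (e : pullback (pullback.snd f q) (Spec.map (CommRingCat.ofHom (algebraMap F (SeparableClosure F)))) ≅ G) :
    SameComp ↥(pullback f (Spec.map (CommRingCat.ofHom φ) ≫ q)) ↥G := by
  let := φ.toAlgebra
  refine ((sameComp_algClosed (K := K) (K' := AlgebraicClosure F) f q).trans
    (sameComp_separableClosure f q)).trans ?_
  exact sameComp_of_iso ((pullbackLeftPullbackSndIso f q _).symm ≪≫ e)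

/-- The counts of the geometric fibre are read off any geometric point. -/
theorem sameComp_geomFiber (f : X ⟶ Y) (K : Type u) [Field K] [IsAlgClosed K] (p : Spec (CommRingCat.of K) ⟶ Y)
    (y : Y) (hy : p (IsLocalRing.closedPoint K) = y) :
    SameComp ↥(pullback f p) ↥(MoreMor.geomFiber f y) := by
  subst hy
  have hp : Spec.map (Y.descResidueField (Scheme.stalkClosedPointTo p)) ≫ Y.fromSpecResidueField _ = p :=
    Scheme.descResidueField_stalkClosedPointTo_fromSpecResidueField K Y p
  refine (sameComp_of_iso (pullback.congrHom rfl hp.symm)).trans ?_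
  exact sameComp_residue f _ (Y.descResidueField (Scheme.stalkClosedPointTo p)).hom (Iso.refl _)

/-- Geometric fibre counts through a geometric point of a base change. -/
theorem sameComp_geomFiber_comp {X' Y' : Scheme.{u}} (f : X ⟶ Y) (f' : X' ⟶ Y') (g' : X' ⟶ X) (g : Y' ⟶ Y)
    (hc : IsPullback g' f' f g) (y' : Y') :
    SameComp ↥(MoreMor.geomFiber f' y') ↥(MoreMor.geomFiber f (g y')) := by
  let K := AlgebraicClosure (Y'.residueField y')
  let p : Spec (CommRingCat.of K) ⟶ Y' :=
    Spec.map (CommRingCat.ofHom (algebraMap (Y'.residueField y') K)) ≫ Y'.fromSpecResidueField y'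
  have hp : p (IsLocalRing.closedPoint K) = y' := by
    rw [Scheme.Hom.comp_apply]; exact Y'.fromSpecResidueField_apply y' _
  refine (sameComp_geomFiber f' K p y' hp).symm.trans (SameComp.trans ?_
    (sameComp_geomFiber f K (p ≫ g) (g y') (by rw [Scheme.Hom.comp_apply, hp])))
  exact sameComp_of_iso ((IsPullback.of_hasPullback f' p).paste_horiz hc).isoPullback

end GISpreadLib
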