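import Mathlib
import Groth.Agent.GISpreadLib.Components
import Groth.Agent.GISpreadLib.Invariance

/-!
# Constancy of the numbers of geometric components near a point
-/

set_option autoImplicit false
universe u

open CategoryTheory CategoryTheory.Limits AlgebraicGeometry TopologicalSpace Topology

namespace GISpreadLib

theorem encard_irreducibleComponents_of_family {α : Type u} [TopologicalSpace α] {ι : Type u} [Finite ι]
    {P : ι → Set α} (hc : ∀ i, IsClosed (P i)) (hi : ∀ i, IsIrreducible (P i)) (hcov : ∀ x, ∃ i, x ∈ P i)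
    (hirr : ∀ i j, P i ⊆ P j → i = j) : (irreducibleComponents α).encard = ENat.card ι := by
  rw [irreducibleComponents_eq_range hc hi hcov hirr]
  exact (ENat.card_congr (Equiv.ofInjective P fun i j h => hirr i j h.le)).symm

theorem exists_algHom_level {R : Type u} [CommRing R] [IsDomain R] {R' : Type u} [CommRing R'] [IsDomain R']
    [Algebra R R'] [Algebra.IsIntegral R R'] [FaithfulSMul R R'] (F : Type u) [Field F] [IsAlgClosed F] [Algebra R F] :
    Nonempty (R' →ₐ[R] F) := by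
  let p := RingHom.ker (algebraMap R F)
  haveI : p.IsPrime := RingHom.ker_isPrime _
  obtain ⟨P, -, hP, hPp⟩ := Ideal.exists_ideal_over_prime_of_isIntegral p (⊥ : Ideal R') (by
    rw [← RingHom.ker_eq_comap_bot, (RingHom.injective_iff_ker_eq_bot _).mp (FaithfulSMul.algebraMap_injective R R')]
    exact bot_le)
  haveI := hP
  haveI : P.LiesOver p := ⟨hPp.symm⟩
  letI : Algebra (R ⧸ p) F := (RingHom.kerLift (algebraMap R F)).toAlgebra
  haveI : IsScalarTower R (R ⧸ p) F := IsScalarTower.of_algebraMap_eq fun r => rfl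
  haveI : FaithfulSMul (R ⧸ p) F := (faithfulSMul_iff_algebraMap_injective _ _).mpr (RingHom.kerLift_injective _)
  haveI : FaithfulSMul (R ⧸ p) (R' ⧸ P) := inferInstance
  haveI : Algebra.IsAlgebraic (R ⧸ p) (R' ⧸ P) := Algebra.IsIntegral.isAlgebraic
  exact ⟨((IsAlgClosed.lift : (R' ⧸ P) →ₐ[R ⧸ p] F).restrictScalars R).comp (Ideal.Quotient.mkₐ R P)⟩

variable {R : Type u} [CommRing R] [IsDomain R] {X : Scheme.{u}} (f : X ⟶ Spec (CommRingCat.of R))
  [LocallyOfFiniteType f] [QuasiCompact f]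
  (L : Type u) [Field L] [IsAlgClosed L] [Algebra R L] [FaithfulSMul R L] [Algebra.IsAlgebraic R L]

/-- The numbers of geometric components are constant near the generic point. -/
theorem exists_forall_sameComp :
    ∃ h : R, h ≠ 0 ∧ ∀ (F : Type u) [Field F] [IsAlgClosed F] [Algebra R F], algebraMap R F h ≠ 0 →
      SameComp ↥(BX f F) ↥(BX f L) := by
  obtain ⟨R', h', Z, hfin, hh', hc, -, -, H⟩ := exists_spreading f L
  haveI := (finite_components f L).to_subtype
  haveI : FaithfulSMul R R' := (faithfulSMul_iff_algebraMap_injective _ _).mpr fun a b hab =>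
    FaithfulSMul.algebraMap_injective R L (congrArg Subtype.val hab)
  haveI : Algebra.IsIntegral R R' := Algebra.IsIntegral.of_finite R R'
  obtain ⟨h, hh, hdvd⟩ := (Algebra.IsAlgebraic.isAlgebraic (R := R) h').exists_nonzero_dvd
    (mem_nonZeroDivisors_of_ne_zero hh')
  have key : ∀ (F : Type u) [Field F] [Algebra R F] [Algebra R' F] [IsScalarTower R R' F], algebraMap R' F h' ≠ 0 →
      (irreducibleComponents ↥(BX f F)).encard = ENat.card (irreducibleComponents ↥(BX f L)) ∧
      ENat.card (_root_.ConnectedComponents ↥(BX f F)) =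
        ENat.card (Quot fun W W' : irreducibleComponents ↥(BX f L) => (W.1 ∩ W'.1).Nonempty) := by
    intro F _ _ _ _ hF
    obtain ⟨hirr, hcov, hred, hmeet⟩ := H F hF
    have hcl : ∀ W, IsClosed ((chgX f R' F).base ⁻¹' Z W) := fun W => (hc W).preimage (chgX f R' F).continuous
    refine ⟨encard_irreducibleComponents_of_family hcl hirr hcov hred, ?_⟩
    rw [← ENat.card_congr (connectedComponentsEquiv hcl hirr hcov)]
    exact ENat.card_congr (Quot.congrRight fun W W' => hmeet W W')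
  have hL : algebraMap R' L h' ≠ 0 := fun h0 => hh' (Subtype.val_injective h0)
  refine ⟨h, hh, fun F _ _ _ hF => ?_⟩
  obtain ⟨φ⟩ := exists_algHom_level (R := R) (R' := R') F
  letI := φ.toRingHom.toAlgebra
  haveI : IsScalarTower R R' F := IsScalarTower.of_algHom φ
  have hF' : algebraMap R' F h' ≠ 0 := fun h0 => hF (by
    obtain ⟨c, hc⟩ := hdvd
    rw [IsScalarTower.algebraMap_apply R R' F, hc, map_mul, h0, zero_mul])
  exact ⟨(key F hF').1.trans (key L hL).1.symm, (key F hF').2.trans (key L hL).2.symm⟩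

omit [LocallyOfFiniteType f] [QuasiCompact f] in
theorem sameComp_BX_geomFiber {Y : Scheme.{u}} {X₀ : Scheme.{u}} (g : X₀ ⟶ Y) (q : Spec (CommRingCat.of R) ⟶ Y)
    (F : Type u) [Field F] [IsAlgClosed F] [Algebra R F] (y : Y)
    (hy : q (Spec.map (CommRingCat.ofHom (algebraMap R F)) (IsLocalRing.closedPoint F)) = y) :
    SameComp ↥(BX (pullback.snd g q) F) ↥(MoreMor.geomFiber g y) :=
  (sameComp_of_iso (pullbackLeftPullbackSndIso g q _)).trans
    (sameComp_geomFiber g F _ y (by rw [Scheme.Hom.comp_apply, hy]))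

/-- The counts are constant on a relative neighbourhood of a point in its closure. -/
theorem exists_nhd_sameComp {X Y : Scheme.{u}} (f : X ⟶ Y) [LocallyOfFiniteType f] [QuasiCompact f] (y : Y) :
    ∃ W : Y.Opens, y ∈ W ∧ ∀ y' ∈ W, y ⤳ y' → SameComp ↥(MoreMor.geomFiber f y') ↥(MoreMor.geomFiber f y) := by
  obtain ⟨_, ⟨U, hU, rfl⟩, hyU, -⟩ := Y.isBasis_affineOpens.exists_subset_of_mem_open (Set.mem_univ y) isOpen_univ
  obtain ⟨P, hP⟩ : ∃ P : PrimeSpectrum Γ(Y, U), hU.fromSpec P = y :=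
    ⟨hU.primeIdealOf ⟨y, hyU⟩, hU.fromSpec_primeIdealOf ⟨y, hyU⟩⟩
  let R := Γ(Y, U) ⧸ P.asIdeal
  let q : Spec (CommRingCat.of R) ⟶ Y := Spec.map (CommRingCat.ofHom (Ideal.Quotient.mk P.asIdeal)) ≫ hU.fromSpec
  let L := AlgebraicClosure (FractionRing R)
  haveI : Algebra.IsAlgebraic R (FractionRing R) :=
    IsLocalization.isAlgebraic (FractionRing R) (nonZeroDivisors R)
  haveI : Algebra.IsAlgebraic R L := Algebra.IsAlgebraic.trans R (FractionRing R) L
  haveI : FaithfulSMul R L := (faithfulSMul_iff_algebraMap_injective _ _).mpr (by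
    rw [IsScalarTower.algebraMap_eq R (FractionRing R) L, RingHom.coe_comp]
    exact (algebraMap (FractionRing R) L).injective.comp (IsFractionRing.injective R _))
  obtain ⟨h, hh, H⟩ := exists_forall_sameComp (pullback.snd f q) L
  obtain ⟨a, ha⟩ := Ideal.Quotient.mk_surjective h
  have hya : y ∈ Y.basicOpen a := by
    rw [← hP]
    show P ∈ hU.fromSpec ⁻¹ᵁ Y.basicOpen a
    rw [hU.fromSpec_preimage_basicOpen]
    exact fun hm => hh (by rw [← ha]; exact Ideal.Quotient.eq_zero_iff_mem.mpr hm)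
  refine ⟨Y.basicOpen a, hya, fun y' hy' hsp => ?_⟩
  obtain ⟨Q, hQ⟩ : ∃ Q : PrimeSpectrum Γ(Y, U), hU.fromSpec Q = y' :=
    ⟨hU.primeIdealOf ⟨y', Y.basicOpen_le a hy'⟩, hU.fromSpec_primeIdealOf ⟨y', _⟩⟩
  have hle : P.asIdeal ≤ Q.asIdeal := by
    rw [← hP, ← hQ, hU.fromSpec.isOpenEmbedding.isInducing.specializes_iff] at hsp
    exact (PrimeSpectrum.le_iff_specializes P Q).mpr hsp
  have haQ : a ∉ Q.asIdeal := by
    rw [← hQ] at hy'
    change Q ∈ hU.fromSpec ⁻¹ᵁ Y.basicOpen a at hy'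
    rwa [hU.fromSpec_preimage_basicOpen] at hy'
  let F := AlgebraicClosure Q.asIdeal.ResidueField
  let ψ : R →+* F := Ideal.Quotient.lift P.asIdeal (algebraMap Γ(Y, U) F) (fun x hx => by
    rw [IsScalarTower.algebraMap_apply Γ(Y, U) Q.asIdeal.ResidueField F,
      Ideal.algebraMap_residueField_eq_zero.mpr (hle hx), map_zero])
  letI := ψ.toAlgebra
  have hker : ∀ x, algebraMap Γ(Y, U) F x = 0 ↔ x ∈ Q.asIdeal := fun x => by
    rw [IsScalarTower.algebraMap_apply Γ(Y, U) Q.asIdeal.ResidueField F, map_eq_zero,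
      Ideal.algebraMap_residueField_eq_zero]
  have hF : algebraMap R F h ≠ 0 := fun h0 => haQ ((hker a).mp (by rw [← ha] at h0; exact h0))
  have hpt : ∀ (K : Type u) [Field K] [Algebra R K] (J : PrimeSpectrum Γ(Y, U)),
      (∀ x, algebraMap R K (Ideal.Quotient.mk _ x) = 0 ↔ x ∈ J.asIdeal) →
      q (Spec.map (CommRingCat.ofHom (algebraMap R K)) (IsLocalRing.closedPoint K)) = hU.fromSpec J := by
    intro K _ _ J hJ
    rw [Scheme.Hom.comp_apply]
    congr 1
    refine PrimeSpectrum.ext (Ideal.ext fun x => ?_)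
    show algebraMap R K (Ideal.Quotient.mk _ x) ∈ IsLocalRing.maximalIdeal K ↔ _
    rw [IsLocalRing.maximalIdeal_eq_bot, Ideal.mem_bot, hJ x]
  refine (sameComp_BX_geomFiber f q F y' ((hpt F Q fun x => hker x).trans hQ)).symm.trans ((H F hF).trans ?_)
  refine sameComp_BX_geomFiber f q L y ((hpt L P fun x => ?_).trans hP)
  rw [map_eq_zero_iff _ (FaithfulSMul.algebraMap_injective R L), Ideal.Quotient.eq_zero_iff_mem]

theorem exists_set_sameComp {X Y : Scheme.{u}} (f : X ⟶ Y) [LocallyOfFiniteType f] [QuasiCompact f] (y : Y) :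
    ∃ V : Set ↑Y, V ⊆ closure {y} ∧ y ∈ V ∧ IsOpen (Subtype.val ⁻¹' V : Set ↑(closure ({y} : Set ↑Y))) ∧
      ∀ y' ∈ V, SameComp ↥(MoreMor.geomFiber f y') ↥(MoreMor.geomFiber f y) := by
  obtain ⟨W, hW, H⟩ := exists_nhd_sameComp f y
  refine ⟨closure {y} ∩ W, Set.inter_subset_left, ⟨subset_closure rfl, hW⟩, ?_, fun y' h => H y' h.2 ?_⟩
  · rw [Set.preimage_inter]
    have : (Subtype.val ⁻¹' closure {y} : Set ↑(closure ({y} : Set ↑Y))) = Set.univ :=
      Set.eq_univ_of_forall fun z => z.2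
    rw [this, Set.univ_inter]
    exact W.isOpen.preimage continuous_subtype_val
  · exact specializes_iff_mem_closure.mpr h.1

end GISpreadLib
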