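import Mathlib
import Groth.Agent.GISpreadLib.Count
import Groth.Agent.S1324

/-!
# Section components are open and closed over a dense open of each integral subscheme of the base
-/

set_option autoImplicit false
universe u

open CategoryTheory CategoryTheory.Limits AlgebraicGeometry TopologicalSpace Topology

namespace GISpreadLib

theorem isIrreducible_preimage_val {α : Type u} [TopologicalSpace α] {T A : Set α} (h : IsIrreducible (T ∩ A)) :
    IsIrreducible (Subtype.val ⁻¹' A : Set T) := by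
  obtain ⟨x, hxT, hxA⟩ := h.nonempty
  refine ⟨⟨⟨x, hxT⟩, hxA⟩, fun u v hu hv hu' hv' => ?_⟩
  obtain ⟨U, hU, rfl⟩ := IsInducing.subtypeVal.isOpen_iff.mp hu
  obtain ⟨V, hV, rfl⟩ := IsInducing.subtypeVal.isOpen_iff.mp hv
  obtain ⟨a, haA, haU⟩ := hu'
  obtain ⟨b, hbA, hbV⟩ := hv'
  obtain ⟨c, ⟨hcT, hcA⟩, hcU, hcV⟩ := h.2 U V hU hV ⟨a, ⟨a.2, haA⟩, haU⟩ ⟨b, ⟨b.2, hbA⟩, hbV⟩
  exact ⟨⟨c, hcT⟩, hcA, hcU, hcV⟩

theorem connectedComponentIn_eq_of_family {α : Type u} [TopologicalSpace α] {T : Set α} {ι : Type u} [Finite ι]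
    {Z : ι → Set α} (hc : ∀ i, IsClosed (Z i)) (hi : ∀ i, IsIrreducible (T ∩ Z i)) (hcov : ∀ x ∈ T, ∃ i, x ∈ Z i)
    {r : ι → ι → Prop} (hr : ∀ a b, (T ∩ (Z a ∩ Z b)).Nonempty ↔ r a b)
    {i : ι} {x : α} (hx : x ∈ T) (hxi : x ∈ Z i) :
    connectedComponentIn T x = T ∩ ⋃ j ∈ {j | Relation.EqvGen r i j}, Z j := by
  let P : ι → Set T := fun j => Subtype.val ⁻¹' Z j
  have he : (fun a b => (P a ∩ P b).Nonempty) = r := by
    funext a b
    refine propext (Iff.trans ?_ (hr a b))
    exact ⟨fun ⟨z, hz⟩ => ⟨z, z.2, hz⟩, fun ⟨z, hzT, hz⟩ => ⟨⟨z, hzT⟩, hz⟩⟩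
  rw [connectedComponentIn_eq_image hx, connectedComponent_eq_classSet (P := P)
    (fun j => (hc j).preimage continuous_subtype_val) (fun j => isIrreducible_preimage_val (hi j))
    (fun z => hcov z z.2) (x := ⟨x, hx⟩) hxi]
  ext z
  simp only [classSet, Linked, he, P, Set.mem_image, Set.mem_iUnion, Set.mem_inter_iff, Set.mem_preimage,
    Set.mem_ofPred_eq, Subtype.exists, exists_and_left, exists_prop, exists_eq_right_right]
  exact ⟨fun ⟨⟨j, hj⟩, hz⟩ => ⟨hz, j, hj⟩, fun ⟨hz, j, hj⟩ => ⟨⟨j, hj⟩, hz⟩⟩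

variable {R : Type u} [CommRing R] [IsDomain R] {X : Scheme.{u}} (f : X ⟶ Spec (CommRingCat.of R))
  [LocallyOfFiniteType f] [QuasiCompact f]

/-- Over an integral affine base the section components are open and closed generically. -/
theorem exists_isClopen_sectionComponents (s : Spec (CommRingCat.of R) ⟶ X) (hs : s ≫ f = 𝟙 _) :
    ∃ h : R, h ≠ 0 ∧ IsClopen (Subtype.val ⁻¹' MoreMor.sectionComponents f s :
      Set ↑(f.base ⁻¹' (PrimeSpectrum.basicOpen h : Set (PrimeSpectrum R)))) := by
  classical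
  let L := AlgebraicClosure (FractionRing R)
  haveI : Algebra.IsAlgebraic R (FractionRing R) :=
    IsLocalization.isAlgebraic (FractionRing R) (nonZeroDivisors R)
  haveI : Algebra.IsAlgebraic R L := Algebra.IsAlgebraic.trans R (FractionRing R) L
  haveI : FaithfulSMul R L := (faithfulSMul_iff_algebraMap_injective _ _).mpr (by
    rw [IsScalarTower.algebraMap_eq R (FractionRing R) L, RingHom.coe_comp]
    exact (algebraMap (FractionRing R) L).injective.comp (IsFractionRing.injective R _))
  obtain ⟨R', h', Z, hfin, hh', hZc, -, hsub, H⟩ := exists_spreading f L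
  haveI := (finite_components f L).to_subtype
  haveI : FaithfulSMul R R' := (faithfulSMul_iff_algebraMap_injective _ _).mpr fun a b hab =>
    FaithfulSMul.algebraMap_injective R L (congrArg Subtype.val hab)
  haveI : Algebra.IsIntegral R R' := Algebra.IsIntegral.of_finite R R'
  let π := prX f R'
  let g := Spec.map (CommRingCat.ofHom (algebraMap R R'))
  let s' : Spec (CommRingCat.of R') ⟶ BX f R' :=
    pullback.lift (g ≫ s) (𝟙 _) (by rw [Category.assoc, hs, Category.comp_id, Category.id_comp])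
  have hs' : s' ≫ sndX f R' = 𝟙 _ := pullback.lift_snd _ _ _
  have hSC : MoreMor.sectionComponents (sndX f R') s' = π ⁻¹' MoreMor.sectionComponents f s :=
    Groth.Agent.S1324.result f s hs (sndX f R') π g (IsPullback.of_hasPullback _ _) s' hs' (pullback.lift_fst _ _ _)
  let D : Set ↑(Spec (CommRingCat.of R')) := (PrimeSpectrum.basicOpen h' : Set (PrimeSpectrum R'))
  let U' : Set ↥(BX f R') := (sndX f R').base ⁻¹' D
  have hsec : ∀ z, (sndX f R').base (s'.base z) = z := fun z => by rw [← Scheme.Hom.comp_apply, hs']; rfl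
  -- the generic point of the finite extension
  let η : Spec (CommRingCat.of R') := (⟨⊥, Ideal.isPrime_bot⟩ : PrimeSpectrum R')
  have hη : η ∈ D := fun hm => hh' ((Submodule.mem_bot _).mp hm)
  obtain ⟨W₀, hW₀⟩ := Set.mem_iUnion.mp (hsub (show s'.base η ∈ U' by
    show (sndX f R').base (s'.base η) ∈ D
    rw [hsec]; exact hη))
  have hW₀' : ∀ z, s'.base z ∈ Z W₀ := fun z => by
    have hη' : (η : PrimeSpectrum R') ⤳ z := (PrimeSpectrum.le_iff_specializes _ _).mp (bot_le (a := z.asIdeal))
    exact (hη'.map s'.continuous).mem_closed (hZc W₀) hW₀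
  -- the fibres
  let r : irreducibleComponents ↥(BX f L) → irreducibleComponents ↥(BX f L) → Prop :=
    fun W W' => (W.1 ∩ W'.1).Nonempty
  let C : Set ↥(BX f R') := ⋃ W ∈ {W | Relation.EqvGen r W₀ W}, Z W
  let C' : Set ↥(BX f R') := ⋃ W ∈ {W | ¬ Relation.EqvGen r W₀ W}, Z W
  have key : ∀ z ∈ D, (∀ W, IsIrreducible ((sndX f R').base ⁻¹' {z} ∩ Z W)) ∧
      ∀ W W', (((sndX f R').base ⁻¹' {z}) ∩ (Z W ∩ Z W')).Nonempty ↔ r W W' := by
    intro z hz
    let J : Ideal R' := z.asIdeal
    let F := AlgebraicClosure J.ResidueField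
    haveI : IsScalarTower R R' F := IsScalarTower.of_algebraMap_eq fun a => by
      rw [IsScalarTower.algebraMap_apply R J.ResidueField F, IsScalarTower.algebraMap_apply R R' J.ResidueField,
        IsScalarTower.algebraMap_apply R' J.ResidueField F]
    have hF : algebraMap R' F h' ≠ 0 := by
      rw [IsScalarTower.algebraMap_apply R' J.ResidueField F, Ne, map_eq_zero, Ideal.algebraMap_residueField_eq_zero]
      exact hz
    obtain ⟨hirr, -, -, hmeet⟩ := H F hF
    have hr' : Set.range (chgX f R' F).base = (sndX f R').base ⁻¹' {z} := by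
      rw [show chgX f R' F = (BXIso f R' F).inv ≫ prX (sndX f R') F by rw [← BXIso_chgX, Iso.inv_hom_id_assoc],
        Scheme.Hom.comp_base, TopCat.coe_comp, Set.range_comp,
        Set.range_eq_univ.mpr (BXIso f R' F).inv.surjective, Set.image_univ, Scheme.Pullback.range_fst]
      congr 1
      ext w
      refine ⟨?_, fun hw => ⟨IsLocalRing.closedPoint F, ?_⟩⟩
      · rintro ⟨v, rfl⟩
        have hv : v = IsLocalRing.closedPoint F := Subsingleton.elim (α := PrimeSpectrum F) _ _
        subst hv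
        refine PrimeSpectrum.ext (Ideal.ext fun a => ?_)
        show algebraMap R' F a ∈ IsLocalRing.maximalIdeal F ↔ _
        rw [IsLocalRing.maximalIdeal_eq_bot, Ideal.mem_bot,
          IsScalarTower.algebraMap_apply R' J.ResidueField F, map_eq_zero, Ideal.algebraMap_residueField_eq_zero]
      · rw [Set.mem_singleton_iff.mp hw]
        refine PrimeSpectrum.ext (Ideal.ext fun a => ?_)
        show algebraMap R' F a ∈ IsLocalRing.maximalIdeal F ↔ _
        rw [IsLocalRing.maximalIdeal_eq_bot, Ideal.mem_bot,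
          IsScalarTower.algebraMap_apply R' J.ResidueField F, map_eq_zero, Ideal.algebraMap_residueField_eq_zero]
    refine ⟨fun W => ?_, fun W W' => ?_⟩
    · have := (hirr W).image _ (chgX f R' F).continuous.continuousOn
      rwa [Set.image_preimage_eq_inter_range, hr', Set.inter_comm] at this
    · refine Iff.trans ?_ (hmeet W W')
      rw [← Set.preimage_inter]
      constructor
      · rintro ⟨x, hx, hx'⟩
        rw [← hr'] at hx
        obtain ⟨y, rfl⟩ := hx
        exact ⟨y, hx'⟩
      · rintro ⟨y, hy⟩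
        exact ⟨_, hr' ▸ ⟨y, rfl⟩, hy⟩
  have hSC' : MoreMor.sectionComponents (sndX f R') s' ∩ U' = C ∩ U' := by
    ext x
    simp only [Set.mem_inter_iff, and_congr_left_iff]
    intro hx
    obtain ⟨hirr, hmeet⟩ := key _ hx
    show x ∈ connectedComponentIn ((sndX f R').base ⁻¹' {(sndX f R').base x}) _ ↔ _
    rw [connectedComponentIn_eq_of_family hZc hirr
      (fun v hv => Set.mem_iUnion.mp (hsub (show v ∈ U' by
        show (sndX f R').base v ∈ D
        rw [Set.mem_singleton_iff.mp (Set.mem_preimage.mp hv)]; exact hx)))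
      hmeet (show s'.base ((sndX f R').base x) ∈ (sndX f R').base ⁻¹' {(sndX f R').base x} from hsec _) (hW₀' _)]
    exact ⟨fun h => h.2, fun h => ⟨rfl, h⟩⟩
  have hclopen : IsClopen (Subtype.val ⁻¹' MoreMor.sectionComponents (sndX f R') s' : Set U') := by
    have e : (Subtype.val ⁻¹' MoreMor.sectionComponents (sndX f R') s' : Set U') = Subtype.val ⁻¹' C := by
      ext v
      exact ⟨fun h => (hSC'.le ⟨h, v.2⟩).1, fun h => (hSC'.ge ⟨h, v.2⟩).1⟩
    have ec : (Subtype.val ⁻¹' C : Set U')ᶜ = Subtype.val ⁻¹' C' := by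
      ext v
      constructor
      · intro hv
        obtain ⟨W, hW⟩ := Set.mem_iUnion.mp (hsub v.2)
        exact Set.mem_iUnion₂.mpr ⟨W, fun hl => hv (Set.mem_iUnion₂.mpr ⟨W, hl, hW⟩), hW⟩
      · intro hv hv'
        obtain ⟨W, hW, hvW⟩ := Set.mem_iUnion₂.mp hv
        obtain ⟨W', hW', hvW'⟩ := Set.mem_iUnion₂.mp hv'
        exact hW (Relation.EqvGen.trans _ _ _ hW' (Relation.EqvGen.rel _ _
          (((key _ v.2).2 W' W).mp ⟨v.1, rfl, hvW', hvW⟩)))
    rw [e]
    refine ⟨((Set.toFinite _).isClosed_biUnion fun W _ => hZc W).preimage continuous_subtype_val, ?_⟩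
    rw [← isClosed_compl_iff, ec]
    exact ((Set.toFinite _).isClosed_biUnion fun W _ => hZc W).preimage continuous_subtype_val
  -- descent
  obtain ⟨h, hh, c, hc⟩ := (Algebra.IsAlgebraic.isAlgebraic (R := R) h').exists_nonzero_dvd
    (mem_nonZeroDivisors_of_ne_zero hh')
  refine ⟨h, hh, ?_⟩
  let U : Set ↥X := f.base ⁻¹' (PrimeSpectrum.basicOpen h : Set (PrimeSpectrum R))
  have hU : π.base ⁻¹' U ⊆ U' := fun v hv hm => by
    change f.base (π.base v) ∈ PrimeSpectrum.basicOpen h at hv
    rw [← Scheme.Hom.comp_apply, show π ≫ f = sndX f R' ≫ g from pullback.condition, Scheme.Hom.comp_apply] at hv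
    exact hv (show algebraMap R R' h ∈ ((sndX f R').base v).asIdeal from hc ▸ Ideal.mul_mem_right c _ hm)
  haveI : IsIntegralHom g := (IsIntegralHom.SpecMap_iff (φ := CommRingCat.ofHom (algebraMap R R'))).mpr
    (algebraMap_isIntegral_iff.mpr inferInstance)
  haveI : Surjective g := ⟨fun z => by
    obtain ⟨P, -, hP, hPp⟩ := Ideal.exists_ideal_over_prime_of_isIntegral z.asIdeal (⊥ : Ideal R') (by
      rw [← RingHom.ker_eq_comap_bot, (RingHom.injective_iff_ker_eq_bot _).mp (FaithfulSMul.algebraMap_injective R R')]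
      exact bot_le)
    exact ⟨(⟨P, hP⟩ : PrimeSpectrum R'), PrimeSpectrum.ext hPp⟩⟩
  haveI : IsIntegralHom π := MorphismProperty.pullback_fst _ _ inferInstance
  haveI : Surjective π := MorphismProperty.pullback_fst _ _ inferInstance
  have hq := ((π.isClosedMap.restrictPreimage U).isQuotientMap π.continuous.restrictPreimage
    (Set.restrictPreimage_surjective U π.surjective))
  refine hq.isClopen_preimage.mp ?_
  have := hclopen.preimage (continuous_inclusion hU)
  rw [hSC] at this
  exact this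

end GISpreadLib
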