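import Mathlib
import Groth.Agent.GISpreadLib.SectComp

/-!
# Section components near a point of the base, inside its closure
-/

set_option autoImplicit false
universe u

open CategoryTheory CategoryTheory.Limits AlgebraicGeometry TopologicalSpace Topology

namespace GISpreadLib

theorem exists_nhd_isClopen_sectionComponents {X Y : Scheme.{u}} (f : X ⟶ Y) (s : Y ⟶ X) (hs : s ≫ f = 𝟙 Y)
    [LocallyOfFiniteType f] [QuasiCompact f] (y : Y) :
    ∃ W : Y.Opens, y ∈ W ∧
      IsClopen (Subtype.val ⁻¹' MoreMor.sectionComponents f s : Set ↑(f.base ⁻¹' (closure {y} ∩ (W : Set Y)))) := by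
  obtain ⟨_, ⟨U, hU, rfl⟩, hyU, -⟩ := Y.isBasis_affineOpens.exists_subset_of_mem_open (Set.mem_univ y) isOpen_univ
  obtain ⟨P, hP⟩ : ∃ P : PrimeSpectrum Γ(Y, U), hU.fromSpec P = y :=
    ⟨hU.primeIdealOf ⟨y, hyU⟩, hU.fromSpec_primeIdealOf ⟨y, hyU⟩⟩
  let R := Γ(Y, U) ⧸ P.asIdeal
  let c := Spec.map (CommRingCat.ofHom (Ideal.Quotient.mk P.asIdeal))
  haveI : IsClosedImmersion c := IsClosedImmersion.spec_of_surjective _ Ideal.Quotient.mk_surjective
  let q : Spec (CommRingCat.of R) ⟶ Y := c ≫ hU.fromSpec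
  let π : pullback f q ⟶ X := pullback.fst f q
  let s' : Spec (CommRingCat.of R) ⟶ pullback f q :=
    pullback.lift (q ≫ s) (𝟙 _) (by rw [Category.assoc, hs, Category.comp_id, Category.id_comp])
  have hSC : MoreMor.sectionComponents (pullback.snd f q) s' = π ⁻¹' MoreMor.sectionComponents f s :=
    Groth.Agent.S1324.result f s hs _ π q (IsPullback.of_hasPullback _ _) s' (pullback.lift_snd _ _ _)
      (pullback.lift_fst _ _ _)
  obtain ⟨h, hh, hcl⟩ := exists_isClopen_sectionComponents (pullback.snd f q) s' (pullback.lift_snd _ _ _)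
  obtain ⟨a, ha⟩ := Ideal.Quotient.mk_surjective h
  have hrange : Set.range q.base = closure {y} ∩ (U : Set Y) := by
    ext z
    constructor
    · rintro ⟨t, rfl⟩
      refine ⟨?_, ?_⟩
      · rw [← specializes_iff_mem_closure, ← hP, show q.base t = hU.fromSpec (c.base t) from rfl]
        refine Specializes.map ?_ hU.fromSpec.continuous
        refine (PrimeSpectrum.le_iff_specializes P (c.base t)).mp (fun x hx => ?_)
        show Ideal.Quotient.mk P.asIdeal x ∈ t.asIdeal
        rw [Ideal.Quotient.eq_zero_iff_mem.mpr hx]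
        exact Ideal.zero_mem _
      · rw [← hU.range_fromSpec]
        exact ⟨_, rfl⟩
    · rintro ⟨hz, hzU⟩
      obtain ⟨Q, rfl⟩ := hU.range_fromSpec.ge hzU
      rw [← specializes_iff_mem_closure, ← hP, hU.fromSpec.isOpenEmbedding.isInducing.specializes_iff] at hz
      obtain ⟨t, ht⟩ : Q ∈ Set.range (PrimeSpectrum.comap (Ideal.Quotient.mk P.asIdeal)) := by
        rw [range_comap_of_surjective _ _ Ideal.Quotient.mk_surjective, Ideal.mk_ker]
        exact ((PrimeSpectrum.le_iff_specializes P Q).mpr hz : (P.asIdeal : Set Γ(Y, U)) ⊆ (Q : PrimeSpectrum Γ(Y, U)).asIdeal)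
      exact ⟨t, congrArg hU.fromSpec.base ht⟩
  have hya : y ∈ Y.basicOpen a := by
    rw [← hP]
    show P ∈ hU.fromSpec ⁻¹ᵁ Y.basicOpen a
    rw [hU.fromSpec_preimage_basicOpen]
    exact fun hm => hh (by rw [← ha]; exact Ideal.Quotient.eq_zero_iff_mem.mpr hm)
  refine ⟨Y.basicOpen a, hya, ?_⟩
  let A : Set ↥(pullback f q) :=
    (pullback.snd f q).base ⁻¹' (PrimeSpectrum.basicOpen h : Set (PrimeSpectrum R))
  let B : Set X := f.base ⁻¹' (closure {y} ∩ (Y.basicOpen a : Set Y))
  have hqa : ∀ t, q.base t ∈ Y.basicOpen a ↔ t ∈ PrimeSpectrum.basicOpen h := fun t => by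
    show c.base t ∈ hU.fromSpec ⁻¹ᵁ Y.basicOpen a ↔ _
    rw [hU.fromSpec_preimage_basicOpen, ← ha]
    exact Iff.rfl
  have hfπ : ∀ w, f.base (π.base w) = q.base ((pullback.snd f q).base w) := fun w => by
    rw [← Scheme.Hom.comp_apply, show π ≫ f = pullback.snd f q ≫ q from pullback.condition, Scheme.Hom.comp_apply]
  have himg : π.base '' A = B := by
    ext x
    constructor
    · rintro ⟨w, hw, rfl⟩
      show f.base (π.base w) ∈ closure {y} ∩ (Y.basicOpen a : Set Y)
      rw [hfπ]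
      exact ⟨(hrange.le ⟨_, rfl⟩).1, (hqa _).mpr hw⟩
    · rintro ⟨hx, hxa⟩
      obtain ⟨w, rfl⟩ : x ∈ Set.range π.base := by
        rw [Scheme.Pullback.range_fst]
        exact hrange.ge ⟨hx, Y.basicOpen_le a hxa⟩
      rw [hfπ] at hxa
      exact ⟨w, (hqa _).mp hxa, rfl⟩
  let m : A → B := fun w => ⟨π.base w, himg.le ⟨w, w.2, rfl⟩⟩
  have hmc : Continuous m := (π.continuous.comp continuous_subtype_val).subtype_mk _
  have hπ : IsEmbedding π.base := π.isEmbedding
  have hm : IsEmbedding m := IsEmbedding.of_comp hmc continuous_subtype_val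
    (hπ.comp IsEmbedding.subtypeVal)
  have hms : Function.Surjective m := fun ⟨x, hx⟩ => by
    obtain ⟨w, hw, rfl⟩ := himg.ge hx
    exact ⟨⟨w, hw⟩, rfl⟩
  refine ((isHomeomorph_iff_isEmbedding_surjective.mpr ⟨hm, hms⟩).isQuotientMap).isClopen_preimage.mp ?_
  rw [hSC] at hcl
  exact hcl

end GISpreadLib
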