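import Mathlib
import Groth.Agent.GISpreadLib.Count
import Groth.Agent.GISpreadLib.SectNhd
import Groth.Agent.ConsLib.General

/-!
# Constructibility of count loci and of section components
-/

set_option autoImplicit false
universe u

open CategoryTheory CategoryTheory.Limits AlgebraicGeometry TopologicalSpace Topology

namespace GISpreadLib

theorem isLocallyConstructible_of_nhd {S : Scheme.{u}} [IsNoetherian S] {E : Set S}
    (H : ∀ y : S, ∃ W : S.Opens, y ∈ W ∧ ∀ y' ∈ W, y ⤳ y' → (y' ∈ E ↔ y ∈ E)) : IsLocallyConstructible E := by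
  refine ConsLib.isLocallyConstructible_of_generic fun {Z} _ _ i _ => ?_
  obtain ⟨W, hW, hW'⟩ := H (i.base (genericPoint Z))
  by_cases hη : i.base (genericPoint Z) ∈ E
  · exact Or.inl ⟨genericPoint Z, mem_interior.mpr ⟨i.base ⁻¹' W,
      fun z hz => (hW' _ hz ((genericPoint_specializes z).map i.continuous)).mpr hη, W.isOpen.preimage i.continuous, hW⟩⟩
  · exact Or.inr ⟨genericPoint Z, mem_interior.mpr ⟨i.base ⁻¹' W,
      fun z hz hzE => hη ((hW' _ hz ((genericPoint_specializes z).map i.continuous)).mp hzE),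
      W.isOpen.preimage i.continuous, hW⟩⟩

theorem isLocallyConstructible_of_cover {S : Scheme.{u}} {E : Set S}
    (H : ∀ x : S, ∃ U : S.Opens, x ∈ U ∧ IsLocallyConstructible (U.ι.base ⁻¹' E)) : IsLocallyConstructible E := by
  intro x
  obtain ⟨U, hxU, hU⟩ := H x
  obtain ⟨W, hxW, hW, hWE⟩ := hU ⟨x, hxU⟩
  let V : Set S := U.ι.base '' W
  refine ⟨V, (U.ι.isOpenEmbedding.isOpenMap _ hW).mem_nhds ⟨⟨x, hxU⟩, mem_of_mem_nhds hxW, rfl⟩,
    U.ι.isOpenEmbedding.isOpenMap _ hW, ?_⟩
  let e : V ≃ₜ W := ((U.ι.isEmbedding.comp IsEmbedding.subtypeVal).toHomeomorph.trans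
    (Homeomorph.setCongr (by rw [Set.range_comp, Subtype.range_coe]))).symm
  have he : ∀ v : V, U.ι.base (e v).1 = v.1 := fun v => congrArg Subtype.val (e.symm_apply_apply v)
  convert hWE.preimage_of_isOpenEmbedding e.isOpenEmbedding using 1
  ext v
  show v.1 ∈ E ↔ U.ι.base (e v).1 ∈ E
  rw [he]

theorem exists_affine_mem {Y : Scheme.{u}} (x : Y) : ∃ U : Y.Opens, IsAffineOpen U ∧ x ∈ U := by
  obtain ⟨_, ⟨U, hU, rfl⟩, hxU, -⟩ := Y.isBasis_affineOpens.exists_subset_of_mem_open (Set.mem_univ x) isOpen_univ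
  exact ⟨U, hU, hxU⟩

/-- A locus compatible with base change which is generically constant is locally constructible. -/
theorem isLocallyConstructible_locus (E : ∀ {X Y : Scheme.{u}}, (X ⟶ Y) → Set Y)
    (hbc : ∀ {X Y X' Y' : Scheme.{u}} (f : X ⟶ Y) (f' : X' ⟶ Y') (g' : X' ⟶ X) (g : Y' ⟶ Y),
      IsPullback g' f' f g → E f' = g.base ⁻¹' E f)
    (hgen : ∀ {X Y : Scheme.{u}} (f : X ⟶ Y) [LocallyOfFiniteType f] [QuasiCompact f] (y : Y),
      ∃ W : Y.Opens, y ∈ W ∧ ∀ y' ∈ W, y ⤳ y' → (y' ∈ E f ↔ y ∈ E f))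
    {X Y : Scheme.{u}} (f : X ⟶ Y) [LocallyOfFinitePresentation f] [QuasiCompact f] [QuasiSeparated f] :
    IsLocallyConstructible (E f) := by
  refine isLocallyConstructible_of_cover fun x => ?_
  obtain ⟨U, hU, hxU⟩ := exists_affine_mem x
  refine ⟨U, hxU, ?_⟩
  haveI : IsAffine U.toScheme := hU
  rw [← hbc f (pullback.snd f U.ι) (pullback.fst f U.ι) U.ι (IsPullback.of_hasPullback _ _)]
  haveI : LocallyOfFinitePresentation (pullback.snd f U.ι) := MorphismProperty.pullback_snd _ _ inferInstance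
  haveI : QuasiCompact (pullback.snd f U.ι) := MorphismProperty.pullback_snd _ _ inferInstance
  haveI : QuasiSeparated (pullback.snd f U.ι) := MorphismProperty.pullback_snd _ _ inferInstance
  obtain ⟨X₀, Y₀, S₀, f₀, g₀, q, pX, pY, _, _, _, _, _, -, hX₀⟩ :=
    ConsLib.exists_noetherian_model (pullback.snd f U.ι) (𝟙 U.toScheme)
  haveI : IsLocallyNoetherian Y₀ := LocallyOfFiniteType.isLocallyNoetherian g₀
  haveI : CompactSpace Y₀ := QuasiCompact.compactSpace_of_compactSpace g₀
  haveI : IsNoetherian Y₀ := {}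
  haveI : LocallyOfFiniteType f₀ := locallyOfFiniteType_of_comp f₀ g₀
  haveI : QuasiCompact f₀ := QuasiCompact.of_comp f₀ g₀
  rw [hbc f₀ _ pX pY hX₀]
  exact ConsLib.isLocallyConstructible_preimage pY (isLocallyConstructible_of_nhd (hgen f₀))

theorem isLocallyConstructible_sectionComponents_noetherian {X Y : Scheme.{u}} [IsNoetherian X] (f : X ⟶ Y)
    (s : Y ⟶ X) (hs : s ≫ f = 𝟙 Y) [LocallyOfFiniteType f] [QuasiCompact f] :
    IsLocallyConstructible (MoreMor.sectionComponents f s) := by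
  refine isLocallyConstructible_of_nhd fun x => ?_
  obtain ⟨W, hW, hcl⟩ := exists_nhd_isClopen_sectionComponents f s hs (f.base x)
  refine ⟨f ⁻¹ᵁ W, hW, fun x' hx' hsp => ?_⟩
  let B : Set X := f.base ⁻¹' (closure {f.base x} ∩ (W : Set Y))
  let a : B := ⟨x, subset_closure rfl, hW⟩
  let b : B := ⟨x', specializes_iff_mem_closure.mp (hsp.map f.continuous), hx'⟩
  have hab : a ⤳ b := (subtype_specializes_iff _ _).mpr hsp
  exact ⟨fun h => hab.mem_open hcl.isOpen (y := b) h, fun h => hab.mem_closed hcl.isClosed (x := a) h⟩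

/-- Section components are locally constructible. -/
theorem isLocallyConstructible_sectionComponents {X Y : Scheme.{u}} (f : X ⟶ Y) (s : Y ⟶ X) (hs : s ≫ f = 𝟙 Y)
    [LocallyOfFinitePresentation f] [QuasiCompact f] [QuasiSeparated f] :
    IsLocallyConstructible (MoreMor.sectionComponents f s) := by
  refine isLocallyConstructible_of_cover fun x => ?_
  obtain ⟨U, hU, hxU⟩ := exists_affine_mem (f.base x)
  refine ⟨f ⁻¹ᵁ U, hxU, ?_⟩
  haveI : IsAffine U.toScheme := hU
  let f' := f ∣_ U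
  let s' : U.toScheme ⟶ (f ⁻¹ᵁ U).toScheme := IsOpenImmersion.lift (f ⁻¹ᵁ U).ι (U.ι ≫ s) (by
    rintro _ ⟨u, rfl⟩
    rw [Scheme.Opens.range_ι]
    show f.base (s.base (U.ι.base u)) ∈ U
    rw [← Scheme.Hom.comp_apply, hs]
    exact u.2)
  have hs'ι : s' ≫ (f ⁻¹ᵁ U).ι = U.ι ≫ s := IsOpenImmersion.lift_fac _ _ _
  have hs'' : s' ≫ f' = 𝟙 _ := by
    rw [← cancel_mono U.ι, Category.assoc, morphismRestrict_ι, reassoc_of% hs'ι, hs, Category.comp_id, Category.id_comp]
  rw [← Groth.Agent.S1324.result f s hs f' (f ⁻¹ᵁ U).ι U.ι (isPullback_morphismRestrict f U).flip s' hs'' hs'ι]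
  haveI : LocallyOfFinitePresentation f' := MorphismProperty.of_isPullback (isPullback_morphismRestrict f U).flip inferInstance
  haveI : QuasiCompact f' := MorphismProperty.of_isPullback (isPullback_morphismRestrict f U).flip inferInstance
  haveI : QuasiSeparated f' := MorphismProperty.of_isPullback (isPullback_morphismRestrict f U).flip inferInstance
  haveI : LocallyOfFinitePresentation (s' ≫ f') := by rw [hs'']; infer_instance
  haveI : QuasiCompact (s' ≫ f') := by rw [hs'']; infer_instance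
  haveI : QuasiSeparated (s' ≫ f') := by rw [hs'']; infer_instance
  obtain ⟨A₀, B₀, S₀, a₀, g₀, q, pA, pB, _, _, _, _, _, hB, hA⟩ := ConsLib.exists_noetherian_model s' f'
  let h₀ := a₀ ≫ g₀
  let B₁ := pullback g₀ h₀
  let s₁ : A₀ ⟶ B₁ := pullback.lift a₀ (𝟙 _) (Category.id_comp _).symm
  have hq : pA ≫ h₀ = q := by
    rw [← Category.assoc, hA.w, Category.assoc, hB.w, reassoc_of% hs'']
  let p₁ : (f ⁻¹ᵁ U).toScheme ⟶ B₁ := pullback.lift pB (f' ≫ pA) (by rw [Category.assoc, hq]; exact hB.w)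
  have sq : IsPullback p₁ f' (pullback.snd g₀ h₀) pA := by
    refine IsPullback.of_right ?_ (pullback.lift_snd _ _ _) (IsPullback.of_hasPullback g₀ h₀)
    rw [pullback.lift_fst, hq]
    exact hB
  have hsq : s' ≫ p₁ = pA ≫ s₁ := by
    apply pullback.hom_ext
    · rw [Category.assoc, Category.assoc, pullback.lift_fst, pullback.lift_fst]
      exact hA.w.symm
    · rw [Category.assoc, Category.assoc, pullback.lift_snd, pullback.lift_snd, Category.comp_id, reassoc_of% hs'']
  haveI : IsLocallyNoetherian A₀ := LocallyOfFiniteType.isLocallyNoetherian h₀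
  haveI : CompactSpace A₀ := QuasiCompact.compactSpace_of_compactSpace h₀
  haveI : LocallyOfFiniteType (pullback.snd g₀ h₀) := MorphismProperty.pullback_snd _ _ inferInstance
  haveI : QuasiCompact (pullback.snd g₀ h₀) := MorphismProperty.pullback_snd _ _ inferInstance
  haveI : IsLocallyNoetherian B₁ := LocallyOfFiniteType.isLocallyNoetherian (pullback.snd g₀ h₀)
  haveI : CompactSpace B₁ := QuasiCompact.compactSpace_of_compactSpace (pullback.snd g₀ h₀)
  haveI : IsNoetherian B₁ := {}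
  have hs₁ : s₁ ≫ pullback.snd g₀ h₀ = 𝟙 _ := pullback.lift_snd _ _ _
  rw [Groth.Agent.S1324.result (pullback.snd g₀ h₀) s₁ hs₁ f' p₁ pA sq s' hs'' hsq]
  exact ConsLib.isLocallyConstructible_preimage p₁
    (isLocallyConstructible_sectionComponents_noetherian _ s₁ hs₁)

end GISpreadLib
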