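import Mathlib
import Groth.Agent.GISpreadLib.Count

/-!
# Geometric irreducibility and connectedness from the counts
-/

set_option autoImplicit false
universe u

open CategoryTheory CategoryTheory.Limits AlgebraicGeometry TopologicalSpace Topology

namespace GISpreadLib

theorem encard_irreducibleComponents_eq_one {α : Type u} [TopologicalSpace α] :
    (irreducibleComponents α).encard = 1 ↔ IrreducibleSpace α := by
  constructor
  · intro h
    obtain ⟨Z, hZ⟩ := Set.encard_eq_one.mp h
    have hu : Z = Set.univ := Set.eq_univ_of_forall fun x => by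
      have := irreducibleComponent_mem_irreducibleComponents x
      rw [hZ] at this
      exact Set.mem_singleton_iff.mp this ▸ mem_irreducibleComponent
    rw [irreducibleSpace_def]
    show IsIrreducible (Set.univ : Set α)
    rw [← hu]
    exact (hZ.ge rfl : Z ∈ irreducibleComponents α).1
  · intro h
    rw [irreducibleComponents_eq_singleton, Set.encard_singleton]

theorem card_connectedComponents_eq_one {α : Type u} [TopologicalSpace α] :
    ENat.card (_root_.ConnectedComponents α) = 1 ↔ ConnectedSpace α := by
  constructor
  · intro h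
    obtain ⟨x⟩ : Nonempty α := by
      by_contra hne
      rw [not_nonempty_iff] at hne
      have : IsEmpty (_root_.ConnectedComponents α) :=
        ⟨fun c => hne.false (ConnectedComponents.surjective_coe c).choose⟩
      rw [(ENat.card_eq_zero_iff_empty _).mpr this] at h
      exact zero_ne_one h
    have : Subsingleton (_root_.ConnectedComponents α) := (ENat.card_le_one_iff_subsingleton _).mp h.le
    exact connectedSpace_iff_connectedComponent.mpr ⟨x, Set.eq_univ_of_forall fun y =>
      ConnectedComponents.coe_eq_coe'.mp (Subsingleton.elim _ _)⟩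
  · intro h
    have : Nonempty (_root_.ConnectedComponents α) := h.toNonempty.map ConnectedComponents.mk
    exact ENat.card_eq_one_iff_unique.mpr ⟨@uniqueOfSubsingleton _ _ this.some⟩

variable {X Y : Scheme.{u}} (f : X ⟶ Y)

theorem geometrically_of_forall (P : ObjectProperty Scheme.{u}) [P.IsClosedUnderIsomorphisms]
    (hP : ∀ {A B : Scheme.{u}} (m : A ⟶ B) [Surjective m], P A → P B) (V : Y.Opens)
    (h : ∀ (K : Type u) [Field K] [IsAlgClosed K] (p : Spec (CommRingCat.of K) ⟶ Y),
      p (IsLocalRing.closedPoint K) ∈ V → P (pullback f p)) :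
    geometrically P (f ∣_ V) := by
  refine geometrically_iff_of_isClosedUnderIsomorphisms.mpr fun K _ p => ?_
  let sK := Spec.map (CommRingCat.ofHom (algebraMap K (AlgebraicClosure K)))
  have h1 : P (pullback f (sK ≫ p ≫ V.ι)) := h _ _ (by
    rw [← Category.assoc, Scheme.Hom.comp_apply]
    exact ((sK ≫ p) (IsLocalRing.closedPoint _)).2)
  have h2 : P (pullback f (p ≫ V.ι)) :=
    hP ((pullbackLeftPullbackSndIso f (p ≫ V.ι) sK).inv ≫ pullback.fst _ _) h1
  exact P.prop_of_iso ((IsPullback.of_hasPullback (f ∣_ V) p).paste_horiz
    (isPullback_morphismRestrict f V).flip).isoPullback.symm h2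

theorem geometricallyIrreducible_restrict (V : Y.Opens)
    (h : ∀ y ∈ V, IrreducibleSpace ↥(MoreMor.geomFiber f y)) : GeometricallyIrreducible (f ∣_ V) := by
  refine ⟨geometrically_of_forall f _ (fun m _ hA => ?_) V fun K _ _ p hp => ?_⟩
  · haveI : IrreducibleSpace _ := hA
    have := (IrreducibleSpace.isIrreducible_univ _).image m m.continuous.continuousOn
    rw [Set.image_univ, Set.range_eq_univ.mpr m.surjective] at this
    exact (irreducibleSpace_def _).mpr this
  · rw [← encard_irreducibleComponents_eq_one, (sameComp_geomFiber f K p _ rfl).1,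
      encard_irreducibleComponents_eq_one]
    exact h _ hp

theorem geometricallyConnected_restrict (V : Y.Opens)
    (h : ∀ y ∈ V, ConnectedSpace ↥(MoreMor.geomFiber f y)) : GeometricallyConnected (f ∣_ V) := by
  refine ⟨geometrically_of_forall f _ (fun m _ hA => ?_) V fun K _ _ p hp => ?_⟩
  · haveI : ConnectedSpace _ := hA
    exact m.surjective.connectedSpace m.continuous
  · rw [← card_connectedComponents_eq_one, (sameComp_geomFiber f K p _ rfl).2,
      card_connectedComponents_eq_one]
    exact h _ hp

theorem exists_open_of_generic [IrreducibleSpace ↥Y] [LocallyOfFiniteType f] [QuasiCompact f] :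
    ∃ V : Y.Opens, (V : Set ↥Y).Nonempty ∧
      ∀ y ∈ V, SameComp ↥(MoreMor.geomFiber f y) ↥(MoreMor.geomFiber f (genericPoint ↥Y)) := by
  obtain ⟨V, hV, H⟩ := exists_nhd_sameComp f (genericPoint ↥Y)
  exact ⟨V, ⟨_, hV⟩, fun y hy => H y hy (genericPoint_specializes y)⟩

end GISpreadLib
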